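import Cfsg.Agent.Lib.FgsC.OrbitStab.PrimSubsets.Affine

/-!
# Five inequivalent subsets: certificates for the small planes and the space of order 27

A stabiliser of a set containing the origin and a basis is among finitely many candidates; that their
commutators commute is checked by the kernel.
-/

set_option autoImplicit false
set_option maxRecDepth 100000
set_option linter.unusedSectionVars false
set_option linter.style.haveILetI false

namespace CfsgLib.OrbitStab.PrimSets

open scoped commutatorElement

variable {r k : ℕ}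

/-- the standard basis -/
def unit (i : Fin k) : V r k := fun j => if j = i then 1 else 0

/-- all tuples from a list -/
def tup {α : Type*} : (n : ℕ) → List α → List (Fin n → α)
  | 0, _ => [Fin.elim0]
  | n + 1, l => (tup n l).flatMap fun f => l.map fun a => Fin.cons a f

theorem mem_tup {α : Type*} : ∀ (n : ℕ) (l : List α) (f : Fin n → α), (∀ i, f i ∈ l) → f ∈ tup n l
  | 0, _, f, _ => by simp [tup, Subsingleton.elim f Fin.elim0]
  | n + 1, l, f, h => by
    simp only [tup, List.mem_flatMap, List.mem_map]
    exact ⟨Fin.tail f, mem_tup n l _ (fun i => h i.succ), f 0, h 0, Fin.cons_self_tail f⟩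

/-- the affine map with given images of the origin and the basis -/
def app (f : Fin (k + 1) → V r k) (x : V r k) : V r k := f 0 + ∑ i, x i • (f i.succ - f 0)

/-- the candidates for the stabiliser -/
def cand (S : List (V r k)) : List (Fin (k + 1) → V r k) :=
  (tup (k + 1) S).filter fun f => (S.all fun x => S.contains (app f x)) &&
    S.all fun x => S.all fun y => decide (app f x = app f y → x = y)

/-- the candidates for commutators -/
def comCand (S : List (V r k)) : List (Fin (k + 1) → V r k) :=
  (cand S).filter fun c => (cand S).any fun a => (cand S).any fun b =>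
    S.all fun x => decide (app c (app b (app a x)) = app a (app b x))

/-- the check -/
def okSet (S : List (V r k)) : Bool :=
  (S.contains 0 && (List.finRange k).all fun i => S.contains (unit i)) &&
    (comCand S).all fun c => (comCand S).all fun d =>
      S.all fun x => decide (app c (app d x) = app d (app c x))

theorem Aff.eq_app {P : Subgroup (Equiv.Perm (V r k))} (h : Aff r k P) {g : Equiv.Perm (V r k)}
    (hg : g ∈ P) (x : V r k) : g x = app (Fin.cons (g 0) fun i => g (unit i)) x := by
  have hx : x = ∑ i, x i • unit i := by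
    funext j
    simp [unit, Finset.sum_apply]
  have h1 : g x - g 0 = h.lp hg x := rfl
  conv_rhs at h1 => rw [hx, map_sum]
  have h2 : ∀ i, h.lp hg (x i • unit i) = x i • (g (unit i) - g 0) := fun i => ZMod.map_smul _ _ _
  simp only [h2] at h1
  simp only [app, Fin.cons_zero, Fin.cons_succ, ← h1]
  abel

theorem meta_of_ok {P : Subgroup (Equiv.Perm (V r k))} (h : Aff r k P) (S : List (V r k))
    (hok : okSet S = true) : Meta P {x | x ∈ S} := by
  simp only [okSet, Bool.and_eq_true, List.all_eq_true, List.contains_iff_mem,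
    decide_eq_true_eq] at hok
  obtain ⟨⟨h0, hu⟩, hcm⟩ := hok
  have hu' : ∀ i, unit i ∈ S := fun i => hu i (List.mem_finRange i)
  let par : Equiv.Perm (V r k) → Fin (k + 1) → V r k := fun g => Fin.cons (g 0) fun i => g (unit i)
  have hpar : ∀ g ∈ P, Keeps {x | x ∈ S} g → par g ∈ cand S := by
    intro g hg hk
    simp only [cand, List.mem_filter, Bool.and_eq_true, List.all_eq_true, List.contains_iff_mem,
      decide_eq_true_eq]
    refine ⟨mem_tup _ _ _ fun i => ?_, fun x hx => ?_, fun x _ y _ hxy => g.injective ?_⟩
    · induction i using Fin.cases with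
      | zero => exact (hk 0).2 h0
      | succ j => exact (hk (unit j)).2 (hu' j)
    · rw [← h.eq_app hg]
      exact (hk x).2 hx
    · rwa [h.eq_app hg, h.eq_app hg y]
  have hcomP : ∀ a ∈ P, ∀ b ∈ P, ⁅a, b⁆ ∈ P := fun a ha b hb => by
    rw [commutatorElement_def]
    exact P.mul_mem (P.mul_mem (P.mul_mem ha hb) (P.inv_mem ha)) (P.inv_mem hb)
  let St : Subgroup (Equiv.Perm (V r k)) :=
    { carrier := {g | Keeps {x | x ∈ S} g}
      one_mem' := fun x => Iff.rfl
      mul_mem' := fun {g l} hg hl x => (hg (l x)).trans (hl x)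
      inv_mem' := fun {g} hg x => by
        rw [← hg (g⁻¹ x), Equiv.Perm.coe_inv, Equiv.apply_symm_apply] }
  have hcom : ∀ a ∈ P, ∀ b ∈ P, Keeps {x | x ∈ S} a → Keeps {x | x ∈ S} b →
      par ⁅a, b⁆ ∈ comCand S := by
    intro a ha b hb hka hkb
    simp only [comCand, List.mem_filter, List.any_eq_true, List.all_eq_true, decide_eq_true_eq]
    have hk : Keeps {x | x ∈ S} ⁅a, b⁆ := by
      show ⁅a, b⁆ ∈ St
      rw [commutatorElement_def]
      exact St.mul_mem (St.mul_mem (St.mul_mem hka hkb) (St.inv_mem hka)) (St.inv_mem hkb)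
    refine ⟨hpar _ (hcomP a ha b hb) hk, par a, hpar a ha hka, par b, hpar b hb hkb, fun x _ => ?_⟩
    rw [← h.eq_app ha, ← h.eq_app hb, ← h.eq_app (hcomP a ha b hb), ← h.eq_app hb, ← h.eq_app ha]
    simp [commutatorElement_def]
  intro a ha b hb c hc d hd h1 h2 h3 h4
  rw [commutatorElement_eq_one_iff_commute]
  set p := ⁅a, b⁆
  set q := ⁅c, d⁆
  have hp : p ∈ P := hcomP a ha b hb
  have hq : q ∈ P := hcomP c hc d hd
  have heq : ∀ x ∈ S, (p * q) x = (q * p) x := by
    intro x hx
    rw [Equiv.Perm.mul_apply, Equiv.Perm.mul_apply, h.eq_app hp, h.eq_app hq, h.eq_app hq (p x),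
      h.eq_app hp x]
    exact hcm _ (hcom a ha b hb h1 h2) _ (hcom c hc d hd h3 h4) x hx
  show p * q = q * p
  refine Equiv.ext fun x => ?_
  rw [h.eq_app (P.mul_mem hp hq), h.eq_app (P.mul_mem hq hp), heq 0 h0]
  congr 1
  exact congrArg _ (funext fun i => heq _ (hu' i))

/-- Five sets of different sizes from five certificates. -/
theorem good_of_certs [hr : Fact r.Prime] {P : Subgroup (Equiv.Perm (V r k))} (h : Aff r k P)
    (L : Fin 5 → List (V r k) × Bool) (hok : ∀ i, okSet (L i).1 = true)
    (hsize : Function.Injective fun i =>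
      if (L i).2 then r ^ k - (L i).1.toFinset.card else (L i).1.toFinset.card) : Good P := by
  classical
  refine good_of_sizes P (fun i => if (L i).2 then {x | x ∈ (L i).1}ᶜ else {x | x ∈ (L i).1}) ?_ ?_
  · have hn : ∀ i, ({x | x ∈ (L i).1} : Set (V r k)).ncard = (L i).1.toFinset.card := fun i => by
      rw [← Set.ncard_coe_finset]
      congr 1
      ext x
      simp
    intro i j hij
    apply hsize
    have hV : Nat.card (V r k) = r ^ k := by simp [Nat.card_eq_fintype_card, ZMod.card]
    have hval : ∀ i, (if (L i).2 then {x | x ∈ (L i).1}ᶜ else {x | x ∈ (L i).1} : Set (V r k)).ncard =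
        if (L i).2 then r ^ k - (L i).1.toFinset.card else (L i).1.toFinset.card := fun i => by
      split_ifs
      · rw [Set.ncard_compl, hV, hn]
      · rw [hn]
    simp only [hval] at hij
    exact hij
  · intro i
    split_ifs
    · exact (meta_of_ok h _ (hok i)).compl
    · exact meta_of_ok h _ (hok i)

/-- the five sets in the plane over three elements -/
def plane3 : Fin 5 → List (V 3 2) × Bool :=
  let A : List (V 3 2) := [0, ![1, 0], ![0, 1]]
  let B : List (V 3 2) := [0, ![1, 0], ![2, 0], ![0, 1]]
  ![(A, false), (B, false), (B, true), (A, true),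
    ([0, ![1, 0], ![0, 1], ![1, 1], ![2, 1], ![1, 2], ![2, 2]], false)]

/-- the five sets in the planes over five and seven elements -/
def plane (r : ℕ) : Fin 5 → List (V r 2) × Bool :=
  let A : List (V r 2) := [0, ![1, 0], ![0, 1]]
  let B : List (V r 2) := [0, ![1, 0], ![2, 0], ![0, 1]]
  ![(A, false), (B, false), (B, true), (A, true),
    ([0, ![1, 0], ![2, 0], ![0, 1], ![1, 1]], false)]

/-- the five sets in the space over three elements -/
def space3 : Fin 5 → List (V 3 3) × Bool :=
  let A : List (V 3 3) := [0, ![0, 0, 1], ![0, 1, 0], ![0, 1, 1], ![1, 0, 0]]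
  let B : List (V 3 3) := [0, ![0, 0, 1], ![0, 0, 2], ![0, 1, 0], ![1, 0, 0], ![1, 1, 0]]
  let C : List (V 3 3) := [0, ![0, 0, 1], ![0, 0, 2], ![0, 1, 0], ![0, 1, 1], ![1, 0, 0], ![1, 1, 0]]
  ![(A, false), (B, false), (C, false), (B, true), (A, true)]

theorem good_plane3 {P : Subgroup (Equiv.Perm (V 3 2))} (h : Aff 3 2 P) : Good P := by
  haveI : Fact (Nat.Prime 3) := ⟨Nat.prime_three⟩
  exact good_of_certs h plane3 (by decide +kernel) (by unfold Function.Injective; decide +kernel)

theorem good_plane5 {P : Subgroup (Equiv.Perm (V 5 2))} (h : Aff 5 2 P) : Good P := by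
  haveI : Fact (Nat.Prime 5) := ⟨Nat.prime_five⟩
  exact good_of_certs h (plane 5) (by decide +kernel) (by unfold Function.Injective; decide +kernel)

theorem good_plane7 {P : Subgroup (Equiv.Perm (V 7 2))} (h : Aff 7 2 P) : Good P := by
  haveI : Fact (Nat.Prime 7) := ⟨by norm_num⟩
  exact good_of_certs h (plane 7) (by decide +kernel) (by unfold Function.Injective; decide +kernel)

set_option maxHeartbeats 1000000 in
theorem good_space3 {P : Subgroup (Equiv.Perm (V 3 3))} (h : Aff 3 3 P) : Good P := by
  haveI : Fact (Nat.Prime 3) := ⟨Nat.prime_three⟩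
  exact good_of_certs h space3 (by decide +kernel) (by unfold Function.Injective; decide +kernel)

end CfsgLib.OrbitStab.PrimSets
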