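import Cfsg.Agent.Lib.FgsC.OrbitStab.PrimSubsets.Affine

/-!
# Five inequivalent subsets: the minimal normal subgroup of the linear part, orders 8 and 32
-/

set_option autoImplicit false
set_option linter.unusedSectionVars false
set_option linter.style.haveILetI false
set_option maxRecDepth 100000

namespace CfsgLib.OrbitStab.PrimSets

open scoped commutatorElement

variable {r k : ℕ} {P : Subgroup (Equiv.Perm (V r k))}

theorem Aff.map_sub (h : Aff r k P) {g : Equiv.Perm (V r k)} (hg : g ∈ stab0 P) (x y : V r k) :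
    g (x - y) = g x - g y := by
  have := h.map_add_zero hg.1 hg.2 (x - y) y
  rw [sub_add_cancel] at this
  rw [this, add_sub_cancel_right]

theorem stab0_ext {a b : stab0 P} (h : ∀ v : V r k, a.1 v = b.1 v) : a = b :=
  Subtype.ext (Equiv.ext h)

/-- the fixed points of a linear element -/
def fixU (h : Aff r k P) (g : stab0 P) : AddSubgroup (V r k) where
  carrier := {v | g.1 v = v}
  zero_mem' := g.2.2
  add_mem' {a b} ha hb := by
    show g.1 (a + b) = a + b
    rw [h.map_add_zero g.2.1 g.2.2, (ha : g.1 a = a), (hb : g.1 b = b)]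
  neg_mem' {a} ha := by
    show g.1 (-a) = -a
    have := h.map_sub g.2 0 a
    rw [zero_sub, g.2.2, zero_sub, (ha : g.1 a = a)] at this
    exact this

theorem fixU_ne_top (h : Aff r k P) {g : stab0 P} (hg : g ≠ 1) : fixU h g ≠ ⊤ := fun ht => hg
  (stab0_ext fun v => (ht ▸ AddSubgroup.mem_top v : v ∈ fixU h g))

/-- A minimal normal subgroup of the linear part. -/
theorem exists_linear_normal [hr : Fact r.Prime] (h : Aff r k P) (hk : 2 ≤ k) :
    ∃ p : ℕ, p.Prime ∧ p ∣ r ^ k - 1 ∧ ∃ N : Subgroup (stab0 P), N.Normal ∧ N ≠ ⊥ ∧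
      (∀ x ∈ N, ∀ y ∈ N, x * y = y * x) ∧ (∀ x ∈ N, x ^ p = 1) ∧
      ∀ v : V r k, (∀ n ∈ N, n.1 v = v) → v = 0 := by
  classical
  have hV : Nat.card (V r k) = r ^ k := by simp [Nat.card_eq_fintype_card, ZMod.card]
  rcases subsingleton_or_nontrivial (stab0 P) with hsub | hnt
  · exfalso
    let e : V r k := fun _ => 1
    have hirr := h.irred (AddSubgroup.zmultiples e) (fun g hg h0 u hu => by
      have : (⟨g, hg, h0⟩ : stab0 P) = 1 := Subsingleton.elim _ _
      rw [show g = 1 from congrArg Subtype.val this]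
      exact hu)
    have hk0 : Nonempty (Fin k) := ⟨⟨0, by omega⟩⟩
    rcases hirr with hb | ht
    · have := AddSubgroup.mem_zmultiples e
      rw [hb, AddSubgroup.mem_bot] at this
      exact one_ne_zero (congrFun this ⟨0, by omega⟩ : (1 : ZMod r) = 0)
    · have h1 : Nat.card (AddSubgroup.zmultiples e) = r ^ k := by
        rw [ht, AddSubgroup.card_top, hV]
      rw [Nat.card_zmultiples] at h1
      have h2 : addOrderOf e ∣ r := addOrderOf_dvd_iff_nsmul_eq_zero.2 (by
        funext i; simp [e])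
      have h3 := Nat.le_of_dvd hr.out.pos h2
      have h4 : r ^ 2 ≤ r ^ k := Nat.pow_le_pow_right hr.out.pos hk
      have h5 : r < r ^ 2 := by have := hr.out.two_le; nlinarith
      omega
  haveI := h.sol0
  obtain ⟨N, hNn, hNne, hNc, hNmin⟩ := CfsgLib.BaseTwo.exists_min_abelian h.sol0
  obtain ⟨p, hp, hpN⟩ := Nat.exists_prime_and_dvd
    (show Nat.card N ≠ 1 from fun h => hNne (Subgroup.card_eq_one.1 h))
  haveI : Fact p.Prime := ⟨hp⟩
  have hexp : ∀ x ∈ N, x ^ p = 1 := by
    let U : Subgroup (stab0 P) :=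
      { carrier := {x | x ∈ N ∧ x ^ p = 1}
        one_mem' := ⟨N.one_mem, one_pow p⟩
        mul_mem' := fun {x y} hx hy => ⟨N.mul_mem hx.1 hy.1, by
          rw [(show Commute x y from hNc x hx.1 y hy.1).mul_pow, hx.2, hy.2, one_mul]⟩
        inv_mem' := fun {x} hx => ⟨N.inv_mem hx.1, by rw [inv_pow, hx.2, inv_one]⟩ }
    have hUn : U.Normal := ⟨fun x hx g => ⟨hNn.conj_mem x hx.1 g, by
      rw [conj_pow, hx.2, mul_one, mul_inv_cancel]⟩⟩
    rcases hNmin U hUn (fun x hx => hx.1) with h | h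
    · exfalso
      obtain ⟨x, hx⟩ := exists_prime_orderOf_dvd_card' (G := N) p hpN
      have hxU : (x : stab0 P) ∈ U := ⟨x.2, by rw [← hx, ← Subgroup.orderOf_coe, pow_orderOf_eq_one]⟩
      rw [h, Subgroup.mem_bot] at hxU
      rw [← Subgroup.orderOf_coe, hxU, orderOf_one] at hx
      exact hp.one_lt.ne hx
    · intro x hx
      exact (h.symm ▸ hx : x ∈ U).2
  -- no common fixed vector
  let F : AddSubgroup (V r k) :=
    { carrier := {v | ∀ n ∈ N, v ∈ fixU h n}
      zero_mem' := fun n _ => (fixU h n).zero_mem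
      add_mem' := fun ha hb n hn => (fixU h n).add_mem (ha n hn) (hb n hn)
      neg_mem' := fun ha n hn => (fixU h n).neg_mem (ha n hn) }
  have hinv : ∀ g ∈ P, g 0 = 0 → ∀ u ∈ F, g u ∈ F := by
    intro g hg h0 u hu n hn
    show n.1 (g u) = g u
    have h1 : _ = u := hu _ (hNn.conj_mem n hn (⟨g, hg, h0⟩ : stab0 P)⁻¹)
    simp only [inv_inv, Subgroup.coe_mul, Subgroup.coe_inv, Equiv.Perm.mul_apply,
      Equiv.Perm.coe_inv] at h1
    rw [Equiv.symm_apply_eq] at h1
    exact h1
  have hF : F = ⊥ := by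
    rcases h.irred F hinv with hb | ht
    · exact hb
    · refine (hNne ((Subgroup.eq_bot_iff_forall N).2 fun n hn => ?_)).elim
      exact stab0_ext fun v => (ht ▸ AddSubgroup.mem_top v : v ∈ F) n hn
  have hfix : ∀ v : V r k, (∀ n ∈ N, n.1 v = v) → v = 0 := fun v hv =>
    AddSubgroup.mem_bot.1 (hF ▸ (hv : v ∈ F))
  refine ⟨p, hp, ?_, N, hNn, hNne, hNc, hexp, hfix⟩
  -- orbit counting
  letI : MulAction N (V r k) :=
    { smul := fun n v => n.1.1 v, one_smul := fun _ => rfl, mul_smul := fun _ _ _ => rfl }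
  have hpg : IsPGroup p N := fun x => ⟨1, Subtype.ext (by
    rw [pow_one, Subgroup.coe_pow]; exact hexp x.1 x.2)⟩
  have hm := hpg.card_modEq_card_fixedPoints (V r k)
  have h1 : Nat.card (MulAction.fixedPoints N (V r k)) = 1 := by
    rw [Nat.card_eq_one_iff_exists]
    refine ⟨⟨0, fun n => n.1.2.2⟩, fun v => Subtype.ext (hfix v.1 fun n hn => v.2 ⟨n, hn⟩)⟩
  rw [h1, hV] at hm
  exact (Nat.modEq_iff_dvd' (Nat.one_le_pow _ _ hr.out.pos)).1 hm.symm

/-- the linear part, as a homomorphism -/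
def proj0 (h : Aff r k P) : P →* stab0 P where
  toFun g := ⟨Equiv.addRight (-g.1 0) * g.1, P.mul_mem (h.trans _) g.2, by simp⟩
  map_one' := Subtype.ext (Equiv.ext fun x => by simp)
  map_mul' g l := Subtype.ext (Equiv.ext fun x => by
    have := h.map_add g.2 (l.1 x + -l.1 0) (l.1 0)
    simp only [add_assoc, neg_add_cancel, add_zero] at this
    simp only [Subgroup.coe_mul, Equiv.Perm.mul_apply, Equiv.coe_addRight]
    calc g.1 (l.1 x) + -g.1 (l.1 0) = (g.1 (l.1 x) - g.1 0) - (g.1 (l.1 0) - g.1 0) := by abel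
      _ = g.1 (l.1 x + -l.1 0) + -g.1 0 := by rw [this]; abel)

theorem eq_translation (h : Aff r k P) {g : P} (hg : proj0 h g = 1) (x : V r k) : g.1 x = x + g.1 0 := by
  have := congrArg (fun q : stab0 P => q.1 x) hg
  simp [proj0, Equiv.Perm.mul_apply] at this
  rwa [← sub_eq_add_neg, sub_eq_iff_eq_add] at this

/-- A linear element of prime order `2 ^ k - 1` makes the commutators of the linear parts commute. -/
theorem commute_commutators {P : Subgroup (Equiv.Perm (V 2 k))} (h : Aff 2 k P) (hk : 2 ≤ k) (hp : (2 ^ k - 1).Prime) (a b c d : stab0 P) :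
    ⁅⁅a, b⁆, ⁅c, d⁆⁆ = 1 := by
  classical
  haveI : Fact (Nat.Prime 2) := ⟨Nat.prime_two⟩
  haveI := Fact.mk hp
  obtain ⟨p, hp', hpd, N, hNn, hNne, hNc, hexp, -⟩ := exists_linear_normal h hk
  obtain rfl : p = 2 ^ k - 1 := (Nat.prime_dvd_prime_iff_eq hp' hp).1 hpd
  obtain ⟨⟨x, hxN⟩, hy⟩ := Subgroup.ne_bot_iff_exists_ne_one.1 hNne
  have hx1 : x ≠ 1 := fun e => hy (Subtype.ext e)
  have hox : orderOf x = 2 ^ k - 1 := orderOf_eq_prime (hexp x hxN) hx1
  have hV : Nat.card (V 2 k) = 2 ^ k := by simp [Nat.card_eq_fintype_card, ZMod.card]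
  -- no non-zero fixed point
  letI : MulAction (stab0 P) (V 2 k) :=
    { smul := fun g v => g.1 v, one_smul := fun _ => rfl, mul_smul := fun _ _ _ => rfl }
  have hfree : ∀ v : V 2 k, x • v = v → v = 0 := by
    intro v hv
    have hpg : IsPGroup (2 ^ k - 1) (Subgroup.zpowers x) := IsPGroup.of_card (n := 1) (by
      rw [pow_one, Nat.card_zpowers, hox])
    have hm := hpg.card_modEq_card_fixedPoints (V 2 k)
    have hcard : Nat.card (MulAction.fixedPoints (Subgroup.zpowers x) (V 2 k)) =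
        Nat.card (fixU h x) := Nat.card_congr
      { toFun := fun v => ⟨v.1, v.2 ⟨x, Subgroup.mem_zpowers x⟩⟩
        invFun := fun v => ⟨v.1, fun g => by
          have : g.1 ∈ MulAction.stabilizer (stab0 P) v.1 :=
            Subgroup.zpowers_le.2 (show x ∈ MulAction.stabilizer (stab0 P) v.1 from v.2) g.2
          exact this⟩
        left_inv := fun v => rfl
        right_inv := fun v => rfl }
    rw [hcard, hV] at hm
    have hmul := (fixU h x).index_mul_card
    rw [hV] at hmul
    obtain ⟨j, hjk, hj⟩ := (Nat.dvd_prime_pow Nat.prime_two).1 (Dvd.intro_left _ hmul)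
    have hjne : j ≠ k := fun e => fixU_ne_top h hx1 (AddSubgroup.eq_top_of_card_eq _ (by
      rw [hV, hj, e]))
    have hlt : 2 ^ j < 2 ^ k := Nat.pow_lt_pow_right (by norm_num) (by omega)
    have hd := (Nat.modEq_iff_dvd' hlt.le).1 (hj ▸ hm.symm)
    have hj0 : j = 0 := by
      by_contra hne
      have : 2 ≤ 2 ^ j := Nat.le_self_pow hne 2
      have := Nat.le_of_dvd (by omega) hd
      omega
    have hbot : fixU h x = ⊥ := (fixU h x).eq_bot_of_card_eq (by rw [hj, hj0, pow_zero])
    exact AddSubgroup.mem_bot.1 (hbot ▸ (hv : v ∈ fixU h x))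
  -- regular on the non-zero vectors
  haveI : Nonempty (Fin k) := ⟨⟨0, by omega⟩⟩
  obtain ⟨v0, hv0⟩ := exists_ne (0 : V 2 k)
  have hzero : ∀ g : stab0 P, g • (0 : V 2 k) = 0 := fun g => g.2.2
  have horb : ∀ w : V 2 k, w ≠ 0 → ∃ g ∈ Subgroup.zpowers x, g • v0 = w := by
    intro w hw
    let f : Subgroup.zpowers x → {v : V 2 k // v ≠ 0} := fun g => ⟨g.1 • v0, fun e =>
      hv0 ((MulAction.injective g.1) (e.trans (hzero _).symm))⟩
    have hinj : Function.Injective f := by
      intro g l hgl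
      by_contra hne
      have hst : g⁻¹ * l ∈ (MulAction.stabilizer (stab0 P) v0).subgroupOf (Subgroup.zpowers x) := by
        show ((g⁻¹ * l : Subgroup.zpowers x) : stab0 P) • v0 = v0
        rw [Subgroup.coe_mul, Subgroup.coe_inv, mul_smul,
          show l.1 • v0 = g.1 • v0 from (congrArg Subtype.val hgl).symm, inv_smul_smul]
      have : Fact (Nat.card (Subgroup.zpowers x)).Prime := ⟨by rw [Nat.card_zpowers, hox]; exact hp⟩
      rcases ((MulAction.stabilizer (stab0 P) v0).subgroupOf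
        (Subgroup.zpowers x)).eq_bot_or_eq_top_of_prime_card with hb | ht
      · rw [hb, Subgroup.mem_bot, inv_mul_eq_one] at hst
        exact hne hst
      · refine hv0 (hfree v0 ?_)
        exact (ht ▸ Subgroup.mem_top _ : (⟨x, Subgroup.mem_zpowers x⟩ : Subgroup.zpowers x) ∈
          (MulAction.stabilizer (stab0 P) v0).subgroupOf (Subgroup.zpowers x))
    have hb : Function.Bijective f := (Nat.bijective_iff_injective_and_card _).2 ⟨hinj, by
      rw [Nat.card_zpowers, hox, Nat.card_eq_fintype_card, Fintype.card_subtype_compl,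
        Fintype.card_subtype_eq, ← Nat.card_eq_fintype_card, hV]⟩
    obtain ⟨g, hg⟩ := hb.2 ⟨w, hw⟩
    exact ⟨g.1, g.2, congrArg Subtype.val hg⟩
  -- the centraliser
  have hcent : ∀ y : stab0 P, Commute x y → y ∈ Subgroup.zpowers x := by
    intro y hy
    obtain ⟨g, hg, hgv⟩ := horb (y • v0) (fun e => hv0 ((MulAction.injective y) (e.trans (hzero _).symm)))
    obtain ⟨i, rfl⟩ := Subgroup.mem_zpowers_iff.1 hg
    refine Subgroup.mem_zpowers_iff.2 ⟨i, stab0_ext fun w => ?_⟩
    show x ^ i • w = y • w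
    by_cases hw : w = 0
    · rw [hw, hzero, hzero]
    obtain ⟨l, hl, rfl⟩ := horb w hw
    obtain ⟨j, rfl⟩ := Subgroup.mem_zpowers_iff.1 hl
    rw [smul_smul, smul_smul, ← (hy.zpow_left j).eq, ← zpow_add, add_comm, zpow_add, mul_smul,
      mul_smul, hgv]
  have hnorm : ∀ g : stab0 P, ∃ i : ℤ, g * x * g⁻¹ = x ^ i := fun g => by
    obtain ⟨i, hi⟩ := Subgroup.mem_zpowers_iff.1 (hcent (g * x * g⁻¹)
      (hNc x hxN _ (hNn.conj_mem x hxN g)))
    exact ⟨i, hi.symm⟩
  have hcom : ∀ g l : stab0 P, ⁅g, l⁆ ∈ Subgroup.zpowers x := by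
    intro g l
    apply hcent
    obtain ⟨i, hi⟩ := hnorm g
    obtain ⟨j, hj⟩ := hnorm l
    have h1 : (g * l) * x * (g * l)⁻¹ = (l * g) * x * (l * g)⁻¹ := by
      calc (g * l) * x * (g * l)⁻¹ = g * (l * x * l⁻¹) * g⁻¹ := by group
        _ = (g * x * g⁻¹) ^ j := by rw [hj, conj_zpow]
        _ = x ^ (i * j) := by rw [hi, zpow_mul]
        _ = (l * x * l⁻¹) ^ i := by rw [hj, ← zpow_mul, mul_comm]
        _ = l * (g * x * g⁻¹) * l⁻¹ := by rw [hi, conj_zpow]
        _ = _ := by group
    show x * ⁅g, l⁆ = ⁅g, l⁆ * x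
    calc x * ⁅g, l⁆ = (g * l) * ((g * l)⁻¹ * x * (g * l)) * (l * g)⁻¹ := by
          rw [commutatorElement_def]; group
      _ = ⁅g, l⁆ * ((l * g) * ((g * l)⁻¹ * x * (g * l)) * (l * g)⁻¹) := by
          rw [commutatorElement_def]; group
      _ = ⁅g, l⁆ * x := by
          congr 1
          have h2 : (g * l)⁻¹ * x * (g * l) = (l * g)⁻¹ * x * (l * g) := by
            obtain ⟨i', hi'⟩ := hnorm g⁻¹
            obtain ⟨j', hj'⟩ := hnorm l⁻¹
            rw [inv_inv] at hi' hj'
            calc (g * l)⁻¹ * x * (g * l) = l⁻¹ * (g⁻¹ * x * g) * l := by group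
              _ = (l⁻¹ * x * l) ^ i' := by
                rw [hi']
                have := conj_zpow (i := i') (a := l⁻¹) (b := x)
                rw [inv_inv] at this
                exact this.symm
              _ = x ^ (j' * i') := by rw [hj', zpow_mul]
              _ = (g⁻¹ * x * g) ^ j' := by rw [hi', ← zpow_mul, mul_comm]
              _ = g⁻¹ * (l⁻¹ * x * l) * g := by
                rw [hj']
                have := conj_zpow (i := j') (a := g⁻¹) (b := x)
                rw [inv_inv] at this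
                exact this
              _ = _ := by group
          rw [h2]; group
  rw [commutatorElement_eq_one_iff_commute]
  obtain ⟨i, hi⟩ := Subgroup.mem_zpowers_iff.1 (hcom a b)
  obtain ⟨j, hj⟩ := Subgroup.mem_zpowers_iff.1 (hcom c d)
  rw [← hi, ← hj]
  exact Commute.zpow_zpow_self x i j

theorem good_mersenne {P : Subgroup (Equiv.Perm (V 2 k))} (h : Aff 2 k P) (hk : 3 ≤ k) (hp : (2 ^ k - 1).Prime) : Good P := by
  classical
  haveI : Fact (Nat.Prime 2) := ⟨Nat.prime_two⟩
  have hV : Nat.card (V 2 k) = 2 ^ k := by simp [Nat.card_eq_fintype_card, ZMod.card]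
  have h8 : 8 ≤ Nat.card (V 2 k) := by
    rw [hV]
    calc 8 = 2 ^ 3 := by norm_num
      _ ≤ 2 ^ k := Nat.pow_le_pow_right (by norm_num) hk
  have hT : ∀ n ≤ 8, ∃ S : Set (V 2 k), S.ncard = n := fun n hn => by
    obtain ⟨S, -, hS⟩ := Set.exists_subset_card_eq (s := (Set.univ : Set (V 2 k))) (n := n)
      (by rw [Set.ncard_univ]; omega)
    exact ⟨S, hS⟩
  choose T hT using fun i : Fin 5 => hT ([1, 2, 3, 5, 7].getD i.1 0) (by fin_cases i <;> norm_num)
  refine good_of_sizes P T ?_ fun i => ?_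
  · intro i j hij
    simp only [hT] at hij
    fin_cases i <;> fin_cases j <;> simp_all
  intro a ha b hb c hc d hd h1 h2 h3 h4
  let St : Subgroup (Equiv.Perm (V 2 k)) :=
    { carrier := {g | Keeps (T i) g}
      one_mem' := fun x => Iff.rfl
      mul_mem' := fun {g l} hg hl x => (hg (l x)).trans (hl x)
      inv_mem' := fun {g} hg x => by
        rw [← hg (g⁻¹ x), Equiv.Perm.coe_inv, Equiv.apply_symm_apply] }
  set z : P := ⁅⁅(⟨a, ha⟩ : P), (⟨b, hb⟩ : P)⁆, ⁅(⟨c, hc⟩ : P), (⟨d, hd⟩ : P)⁆⁆ with hz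
  have hzv : (z : Equiv.Perm (V 2 k)) = ⁅⁅a, b⁆, ⁅c, d⁆⁆ := by
    rw [hz]; simp [commutatorElement_def]
  rw [← hzv]
  have hproj : proj0 h z = 1 := by
    rw [hz, map_commutatorElement, map_commutatorElement, map_commutatorElement]
    exact commute_commutators h (by omega) hp _ _ _ _
  have htr := eq_translation h hproj
  suffices h0 : z.1 0 = 0 from Equiv.ext fun x => by rw [htr, h0, add_zero]; rfl
  have hkeep : Keeps (T i) z.1 := by
    show z.1 ∈ St
    rw [hzv]
    simp only [commutatorElement_def]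
    exact St.mul_mem (St.mul_mem (St.mul_mem (St.mul_mem (St.mul_mem (St.mul_mem h1 h2) (St.inv_mem h1))
      (St.inv_mem h2)) (St.mul_mem (St.mul_mem (St.mul_mem h3 h4) (St.inv_mem h3)) (St.inv_mem h4))) (St.inv_mem
      (St.mul_mem (St.mul_mem (St.mul_mem h1 h2) (St.inv_mem h1)) (St.inv_mem h2)))) (St.inv_mem
      (St.mul_mem (St.mul_mem (St.mul_mem h3 h4) (St.inv_mem h3)) (St.inv_mem h4)))
  by_contra hne
  by_cases h2' : (T i).ncard = 2
  · obtain ⟨u, w, huw, huw'⟩ := Set.ncard_eq_two.1 h2'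
    have hfix : ∀ p q : Equiv.Perm (V 2 k), Keeps (T i) p → Keeps (T i) q → ⁅p, q⁆ u = u := by
      intro p q hp' hq'
      have hm : ∀ g : Equiv.Perm (V 2 k), Keeps (T i) g →
          (g u = u ∧ g w = w) ∨ (g u = w ∧ g w = u) := by
        intro g hg
        have a1 : g u ∈ T i := (hg u).2 (by simp [huw'])
        have a2 : g w ∈ T i := (hg w).2 (by simp [huw'])
        simp only [huw', Set.mem_insert_iff, Set.mem_singleton_iff] at a1 a2
        rcases a1 with a1 | a1 <;> rcases a2 with a2 | a2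
        · exact absurd (g.injective (a1.trans a2.symm)) huw
        · exact Or.inl ⟨a1, a2⟩
        · exact Or.inr ⟨a1, a2⟩
        · exact absurd (g.injective (a1.trans a2.symm)) huw
      rcases hm p hp' with ⟨pu, pw⟩ | ⟨pu, pw⟩ <;> rcases hm q hq' with ⟨qu, qw⟩ | ⟨qu, qw⟩
      all_goals
        have pu' := Equiv.Perm.inv_eq_iff_eq.2 pu.symm
        have pw' := Equiv.Perm.inv_eq_iff_eq.2 pw.symm
        have qu' := Equiv.Perm.inv_eq_iff_eq.2 qu.symm
        have qw' := Equiv.Perm.inv_eq_iff_eq.2 qw.symm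
        simp only [commutatorElement_def, Equiv.Perm.mul_apply]
        simp only [pu, pw, qu, qw, pu', pw', qu', qw']
    have hk2 : ∀ p q : Equiv.Perm (V 2 k), Keeps (T i) p → Keeps (T i) q → Keeps (T i) ⁅p, q⁆ := by
      intro p q hp' hq'
      show ⁅p, q⁆ ∈ St
      rw [commutatorElement_def]
      exact St.mul_mem (St.mul_mem (St.mul_mem hp' hq') (St.inv_mem hp')) (St.inv_mem hq')
    have hzu : z.1 u = u := by rw [hzv]; exact hfix _ _ (hk2 a b h1 h2) (hk2 c d h3 h4)
    exact hne (add_left_cancel ((htr u).symm.trans (hzu.trans (add_zero u).symm)))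
  · -- a translation without fixed points on a set of odd size
    let σ : Equiv.Perm (T i) :=
      { toFun := fun x => ⟨z.1 x.1, (hkeep x.1).2 x.2⟩
        invFun := fun x => ⟨z.1 x.1, (hkeep x.1).2 x.2⟩
        left_inv := fun x => Subtype.ext (by
          show z.1 (z.1 x.1) = x.1
          rw [htr, htr x.1, add_assoc, show z.1 0 + z.1 0 = 0 from funext fun j => CharTwo.add_self_eq_zero _,
            add_zero])
        right_inv := fun x => Subtype.ext (by
          show z.1 (z.1 x.1) = x.1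
          rw [htr, htr x.1, add_assoc, show z.1 0 + z.1 0 = 0 from funext fun j => CharTwo.add_self_eq_zero _,
            add_zero]) }
    have hσ2 : σ ^ 2 ^ 1 = 1 := by
      rw [pow_one, pow_two]
      exact Equiv.ext fun x => σ.left_inv x
    haveI : Fintype (T i) := Fintype.ofFinite _
    have hc' := Equiv.Perm.card_compl_support_modEq (p := 2) hσ2
    have hsupp : σ.supportᶜ = ∅ := by
      rw [Finset.eq_empty_iff_forall_notMem]
      intro x hx
      simp only [Finset.mem_compl, Equiv.Perm.mem_support, not_not] at hx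
      have : z.1 x.1 = x.1 := congrArg Subtype.val hx
      rw [htr] at this
      exact hne (add_left_cancel (this.trans (add_zero _).symm))
    rw [hsupp, Finset.card_empty, ← Nat.card_eq_fintype_card, Nat.card_coe_set_eq, hT] at hc'
    rw [hT] at h2'
    revert hc' h2'
    fin_cases i <;> decide

end CfsgLib.OrbitStab.PrimSets
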