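import Cfsg.Agent.Lib.FgsC.OrbitStab.PrimSubsets.Singer

/-!
# Five inequivalent subsets: soluble irreducible groups on sixteen vectors have order at most 144
-/

set_option autoImplicit false
set_option linter.unusedSectionVars false
set_option linter.style.haveILetI false
set_option maxRecDepth 100000

namespace CfsgLib.OrbitStab.PrimSets

open scoped commutatorElement

theorem card_le_mul_conj {G : Type*} [Group G] [Finite G] (x y : G) (S : Set G)
    (hS : ∀ g : G, g * x * g⁻¹ ∈ S ∧ g * y * g⁻¹ ∈ S) :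
    Nat.card G ≤ Nat.card (Subgroup.centralizer ({x, y} : Set G)) * (S.ncard * S.ncard) := by
  rw [← (Subgroup.centralizer ({x, y} : Set G)).card_mul_index, ← Nat.card_coe_set_eq,
    ← Nat.card_prod, Subgroup.index_eq_card]
  refine Nat.mul_le_mul_left _ (Nat.card_le_card_of_injective
    (fun q : G ⧸ Subgroup.centralizer ({x, y} : Set G) =>
      ((⟨_, (hS q.out).1⟩ : S), (⟨_, (hS q.out).2⟩ : S))) fun p q hpq => ?_)
  have h1 : p.out * x * p.out⁻¹ = q.out * x * q.out⁻¹ := congrArg (fun t => (t.1 : G)) hpq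
  have h2 : p.out * y * p.out⁻¹ = q.out * y * q.out⁻¹ := congrArg (fun t => (t.2 : G)) hpq
  rw [← p.out_eq', ← q.out_eq', QuotientGroup.eq, Subgroup.mem_centralizer_iff]
  rintro z (rfl | rfl)
  · calc z * (p.out⁻¹ * q.out) = p.out⁻¹ * (p.out * z * p.out⁻¹) * q.out := by group
      _ = p.out⁻¹ * (q.out * z * q.out⁻¹) * q.out := by rw [h1]
      _ = _ := by group
  · calc z * (p.out⁻¹ * q.out) = p.out⁻¹ * (p.out * z * p.out⁻¹) * q.out := by group
      _ = p.out⁻¹ * (q.out * z * q.out⁻¹) * q.out := by rw [h2]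
      _ = _ := by group

/-- a soluble group on five points has order at most 24 -/
theorem card_soluble_five {α : Type*} [Finite α] (hα : Nat.card α = 5)
    (H : Subgroup (Equiv.Perm α)) (hs : Group.IsSolvable H) : Nat.card H ≤ 24 := by
  classical
  have hn : ¬ Group.IsSolvable (Equiv.Perm α) := by
    intro h
    exact Equiv.Perm.not_isSolvable_fin_5 (Group.isSolvable_of_surjective
      (f := (Finite.equivFinOfCardEq hα).permCongrHom.toMonoidHom) (MulEquiv.surjective _))
  obtain ⟨f, hf⟩ := CfsgLib.BaseThree.five_cosets hn H hs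
  have h5 : 5 ≤ H.index := by
    have := Nat.card_le_card_of_injective (fun i : Fin 5 => (f i : Equiv.Perm α ⧸ H))
      fun i j h => hf i j (QuotientGroup.eq.1 h)
    rwa [Nat.card_eq_fintype_card, Fintype.card_fin, ← Subgroup.index_eq_card] at this
  have h120 := H.card_mul_index
  rw [Nat.card_perm, hα, show Nat.factorial 5 = 120 from rfl] at h120
  have : Nat.card H * 5 ≤ 120 := h120 ▸ Nat.mul_le_mul_left _ h5
  omega

variable {P : Subgroup (Equiv.Perm (V 2 4))}

theorem cardV : Nat.card (V 2 4) = 16 := by simp [Nat.card_eq_fintype_card, ZMod.card]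

/-- invariant subgroups and elements of prime order -/
theorem invariant_mod (h : Aff 2 4 P) {p : ℕ} [hp : Fact p.Prime] {x : stab0 P} (hx : x ^ p = 1)
    (U : AddSubgroup (V 2 4)) (hU : ∀ u ∈ U, x.1 u ∈ U) :
    Nat.card U ≡ Nat.card (U ⊓ fixU h x : AddSubgroup (V 2 4)) [MOD p] := by
  classical
  let f : U → U := fun u => ⟨x.1 u.1, hU _ u.2⟩
  have hi : Function.Injective f := fun a b hab => Subtype.ext (x.1.injective (congrArg Subtype.val hab))
  let σ : Equiv.Perm U := Equiv.ofBijective f (Finite.injective_iff_bijective.1 hi)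
  have hpow : ∀ n u, ((σ ^ n) u).1 = (x.1 ^ n) u.1 := by
    intro n
    induction n with
    | zero => intro u; rfl
    | succ n ih => intro u; rw [pow_succ', pow_succ', Equiv.Perm.mul_apply, Equiv.Perm.mul_apply, ← ih]; rfl
  have hσ : σ ^ p ^ 1 = 1 := Equiv.ext fun u => Subtype.ext (by
    rw [hpow, pow_one, ← Subgroup.coe_pow, hx]; rfl)
  haveI := Fintype.ofFinite U
  have hc := Equiv.Perm.card_compl_support_modEq (p := p) hσ
  have e : Nat.card (U ⊓ fixU h x : AddSubgroup (V 2 4)) = σ.supportᶜ.card := by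
    have e1 : Nat.card (U ⊓ fixU h x : AddSubgroup (V 2 4)) = Nat.card {u : U // σ u = u} := Nat.card_congr
      { toFun := fun u => ⟨⟨u.1, u.2.1⟩, Subtype.ext u.2.2⟩
        invFun := fun u => ⟨u.1.1, u.1.2, congrArg Subtype.val u.2⟩
        left_inv := fun u => rfl
        right_inv := fun u => rfl }
    rw [e1, Nat.card_eq_fintype_card, Fintype.card_subtype]
    congr 1
    ext u
    simp
  rw [e, Nat.card_eq_fintype_card]
  exact hc.symm

theorem card_sub (U : AddSubgroup (V 2 4)) :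
    Nat.card U = 1 ∨ Nat.card U = 2 ∨ Nat.card U = 4 ∨ Nat.card U = 8 ∨ Nat.card U = 16 := by
  have h := U.index_mul_card
  rw [cardV] at h
  obtain ⟨j, hj, e⟩ := (Nat.dvd_prime_pow Nat.prime_two).1 (show Nat.card U ∣ 2 ^ 4 from Dvd.intro_left _ h)
  interval_cases j <;> omega

theorem smul_ne_zero' (g : stab0 P) {v : V 2 4} (hv : v ≠ 0) : g.1 v ≠ 0 := fun e =>
  hv (g.1.injective (e.trans g.2.2.symm))

theorem eq_of_fix_top (h : Aff 2 4 P) {a b : stab0 P} (U : AddSubgroup (V 2 4))
    (hU : U = fixU h (b⁻¹ * a)) (hcard : Nat.card U = 16) : a = b := by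
  have ht : U = ⊤ := U.eq_top_of_card_eq (by rw [hcard, cardV])
  have : b⁻¹ * a = 1 := stab0_ext fun v => (hU ▸ ht ▸ AddSubgroup.mem_top v : v ∈ fixU h (b⁻¹ * a))
  exact (inv_mul_eq_one.1 this).symm

theorem comm_apply {a x : stab0 P} (hax : a * x = x * a) (v : V 2 4) : a.1 (x.1 v) = x.1 (a.1 v) :=
  Equiv.congr_fun (congrArg Subtype.val hax) v

/-- the bound for order five -/
theorem bound_five (h : Aff 2 4 P) (N : Subgroup (stab0 P)) (hNn : N.Normal) (hNne : N ≠ ⊥)
    (hNc : ∀ x ∈ N, ∀ y ∈ N, x * y = y * x) (hexp : ∀ x ∈ N, x ^ 5 = 1) :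
    Nat.card (stab0 P) ≤ 144 := by
  classical
  haveI : Fact (Nat.Prime 5) := ⟨by norm_num⟩
  obtain ⟨⟨x, hxN⟩, hy⟩ := Subgroup.ne_bot_iff_exists_ne_one.1 hNne
  have hx1 : x ≠ 1 := fun e => hy (Subtype.ext e)
  have hfree : fixU h x = ⊥ := by
    have hm := invariant_mod h (hexp x hxN) ⊤ (fun u _ => trivial)
    rw [top_inf_eq, AddSubgroup.card_top, cardV] at hm
    have hne : Nat.card (fixU h x) ≠ 16 := fun e => fixU_ne_top h hx1
      ((fixU h x).eq_top_of_card_eq (by rw [e, cardV]))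
    refine (fixU h x).eq_bot_of_card_eq ?_
    rcases card_sub (fixU h x) with e | e | e | e | e <;> rw [e] at hm hne ⊢ <;>
      simp [Nat.ModEq] at hm hne ⊢
  set C := Subgroup.centralizer ({x, x} : Set (stab0 P))
  have hC : ∀ a ∈ C, a * x = x * a := fun a ha =>
    (Subgroup.mem_centralizer_iff.1 ha x (Or.inl rfl)).symm
  obtain ⟨v0, hv0⟩ := exists_ne (0 : V 2 4)
  have hC15 : Nat.card C ≤ 15 := by
    have hc : Nat.card {v : V 2 4 // v ≠ 0} = 15 := by
      rw [Nat.card_eq_fintype_card, Fintype.card_subtype_compl, Fintype.card_subtype_eq,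
        ← Nat.card_eq_fintype_card, cardV]
    rw [← hc]
    refine Nat.card_le_card_of_injective (fun a => ⟨a.1.1 v0, smul_ne_zero' a.1 hv0⟩) fun a b hab => ?_
    refine Subtype.ext (eq_of_fix_top h (fixU h (b.1⁻¹ * a.1)) rfl ?_)
    set U := fixU h (b.1⁻¹ * a.1)
    have hv : v0 ∈ U := by
      show (b.1⁻¹ * a.1).1 v0 = v0
      rw [Subgroup.coe_mul, Subgroup.coe_inv, Equiv.Perm.mul_apply, Equiv.Perm.coe_inv,
        Equiv.symm_apply_eq]
      exact congrArg Subtype.val hab
    have hinv : ∀ u ∈ U, x.1 u ∈ U := fun u hu => by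
      show (b.1⁻¹ * a.1).1 (x.1 u) = x.1 u
      rw [comm_apply (hC _ (C.mul_mem (C.inv_mem b.2) a.2)), (hu : (b.1⁻¹ * a.1).1 u = u)]
    have hm := invariant_mod h (hexp x hxN) U hinv
    rw [hfree, inf_bot_eq, AddSubgroup.card_bot] at hm
    have hne : Nat.card U ≠ 1 := fun e => hv0 (by
      have := U.eq_bot_of_card_eq e
      rw [this, AddSubgroup.mem_bot] at hv
      exact hv)
    rcases card_sub U with e | e | e | e | e <;> rw [e] at hm hne ⊢ <;>
      simp [Nat.ModEq] at hm hne ⊢
  have hNC : N ≤ C := fun n hn => Subgroup.mem_centralizer_iff.2 (by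
    rintro z (rfl | rfl) <;> exact hNc _ hxN n hn)
  have hN5 : Nat.card N ≤ 5 := by
    have hle := (Subgroup.card_le_of_le hNC).trans hC15
    obtain ⟨j, hj⟩ := IsPGroup.iff_card.1 (show IsPGroup 5 N from fun a => ⟨1, Subtype.ext (by
      rw [pow_one, Subgroup.coe_pow]; exact hexp a.1 a.2)⟩)
    rw [hj] at hle ⊢
    have : j ≤ 1 := by
      by_contra hlt
      have : 5 ^ 2 ≤ 5 ^ j := Nat.pow_le_pow_right (by norm_num) (by omega)
      omega
    exact (Nat.pow_le_pow_right (by norm_num) this).trans (by norm_num)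
  let S : Set (stab0 P) := (N : Set (stab0 P)) \ {1}
  have hS4 : S.ncard ≤ 4 := by
    rw [Set.ncard_sdiff_singleton_of_mem N.one_mem, ← Nat.card_coe_set_eq]
    change Nat.card N - 1 ≤ 4
    omega
  -- one generator suffices
  have h1 : Nat.card (stab0 P) ≤ Nat.card C * S.ncard := by
    rw [← C.card_mul_index, ← Nat.card_coe_set_eq, Subgroup.index_eq_card]
    refine Nat.mul_le_mul_left _ (Nat.card_le_card_of_injective
      (fun q => (⟨q.out * x * q.out⁻¹, hNn.conj_mem x hxN _, fun e => hx1 (conj_eq_one_iff.1 e)⟩ : S))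
      fun p q hpq => ?_)
    have e : p.out * x * p.out⁻¹ = q.out * x * q.out⁻¹ := congrArg Subtype.val hpq
    rw [← p.out_eq', ← q.out_eq', QuotientGroup.eq, Subgroup.mem_centralizer_iff]
    have e2 : x * (p.out⁻¹ * q.out) = p.out⁻¹ * q.out * x := by
      calc x * (p.out⁻¹ * q.out) = p.out⁻¹ * (p.out * x * p.out⁻¹) * q.out := by group
        _ = p.out⁻¹ * (q.out * x * q.out⁻¹) * q.out := by rw [e]
        _ = _ := by group
    rintro z (rfl | rfl) <;> exact e2
  calc Nat.card (stab0 P) ≤ Nat.card C * S.ncard := h1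
    _ ≤ 15 * 4 := Nat.mul_le_mul hC15 hS4
    _ ≤ 144 := by norm_num

theorem three_sum (h : Aff 2 4 P) {x : stab0 P} (hx : x ^ 3 = 1) (hfree : fixU h x = ⊥) (v : V 2 4) :
    v + x.1 v + x.1 (x.1 v) = 0 := by
  have h3 : ∀ w, x.1 (x.1 (x.1 w)) = w := fun w => by
    have := Equiv.congr_fun (congrArg Subtype.val hx) w
    simpa [pow_succ, Equiv.Perm.mul_apply] using this
  have : v + x.1 v + x.1 (x.1 v) ∈ fixU h x := by
    show x.1 _ = _
    rw [h.map_add_zero x.2.1 x.2.2, h.map_add_zero x.2.1 x.2.2, h3]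
    abel
  rwa [hfree, AddSubgroup.mem_bot] at this

set_option maxHeartbeats 1000000 in
/-- the bound for a cyclic minimal normal subgroup of order three -/
theorem bound_three_cyclic (h : Aff 2 4 P) (N : Subgroup (stab0 P)) (hNn : N.Normal)
    {x : stab0 P} (hx : x ^ 3 = 1) (hx1 : x ≠ 1) (hxN : x ∈ N) (hN : Nat.card N = 3)
    (hfree : fixU h x = ⊥) : Nat.card (stab0 P) ≤ 144 := by
  classical
  set C := Subgroup.centralizer ({x} : Set (stab0 P))
  have hC : ∀ a ∈ C, a * x = x * a := fun a ha => Subgroup.mem_centralizer_singleton_iff.1 ha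
  have h3 : ∀ w, x.1 (x.1 (x.1 w)) = w := fun w => by
    have := Equiv.congr_fun (congrArg Subtype.val hx) w
    simpa [pow_succ, Equiv.Perm.mul_apply] using this
  have hne : ∀ v, v ≠ 0 → x.1 v ≠ v := fun v hv e => hv (by
    have : v ∈ fixU h x := e
    rwa [hfree, AddSubgroup.mem_bot] at this)
  have hne2 : ∀ v, v ≠ 0 → x.1 (x.1 v) ≠ v := fun v hv e => hne v hv (by
    calc x.1 v = x.1 (x.1 (x.1 v)) := by rw [e]
      _ = v := h3 v)
  let Ln : V 2 4 → Finset (V 2 4) := fun v => {v, x.1 v, x.1 (x.1 v)}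
  have hLmem : ∀ v w, w ∈ Ln v → Ln w = Ln v := by
    intro v w hw
    simp only [Ln, Finset.mem_insert, Finset.mem_singleton] at hw
    rcases hw with rfl | rfl | rfl
    · rfl
    · ext u; simp only [Ln, h3, Finset.mem_insert, Finset.mem_singleton]; tauto
    · ext u; simp only [Ln, h3, Finset.mem_insert, Finset.mem_singleton]; tauto
  have hLcard : ∀ v, v ≠ 0 → (Ln v).card = 3 := fun v hv =>
    Finset.card_eq_three.2 ⟨v, x.1 v, x.1 (x.1 v), (hne v hv).symm, (hne2 v hv).symm,
      fun e => hne v hv (x.1.injective e).symm, rfl⟩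
  let Lns : Finset (Finset (V 2 4)) := (Finset.univ.erase 0).image Ln
  have hLns : Lns.card = 5 := by
    have hs := Finset.card_eq_sum_card_fiberwise (s := Finset.univ.erase (0 : V 2 4)) (t := Lns) (f := Ln)
      fun v hv => Finset.mem_image_of_mem _ hv
    have hfib : ∀ L ∈ Lns, ((Finset.univ.erase 0).filter fun v => Ln v = L).card = 3 := by
      intro L hL
      obtain ⟨v, hv, rfl⟩ := Finset.mem_image.1 hL
      have hv0 := (Finset.mem_erase.1 hv).1
      rw [← hLcard v hv0]
      congr 1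
      ext w
      simp only [Finset.mem_filter, Finset.mem_erase, Finset.mem_univ, and_true]
      constructor
      · rintro ⟨-, e⟩
        rw [← e]; simp [Ln]
      · intro hw
        refine ⟨?_, hLmem v w hw⟩
        simp only [Ln, Finset.mem_insert, Finset.mem_singleton] at hw
        rcases hw with rfl | rfl | rfl
        exacts [hv0, smul_ne_zero' x hv0, smul_ne_zero' x (smul_ne_zero' x hv0)]
    rw [Finset.sum_congr rfl hfib, Finset.sum_const, smul_eq_mul, Finset.card_erase_of_mem (Finset.mem_univ _),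
      Finset.card_univ, ← Nat.card_eq_fintype_card, cardV] at hs
    omega
  have hmap : ∀ a ∈ C, ∀ v, (Ln v).image a.1 = Ln (a.1 v) := fun a ha v => by
    simp only [Ln, Finset.image_insert, Finset.image_singleton, comm_apply (hC a ha)]
  have hperm : ∀ a ∈ C, ∀ L ∈ Lns, L.image a.1 ∈ Lns := by
    intro a ha L hL
    obtain ⟨v, hv, rfl⟩ := Finset.mem_image.1 hL
    rw [hmap a ha]
    exact Finset.mem_image_of_mem _
      (Finset.mem_erase.2 ⟨smul_ne_zero' a (Finset.mem_erase.1 hv).1, Finset.mem_univ _⟩)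
  letI : MulAction C Lns :=
    { smul := fun a L => ⟨L.1.image a.1.1, hperm a.1 a.2 L.1 L.2⟩
      one_smul := fun L => Subtype.ext (by
        show L.1.image ((1 : C) : stab0 P).1 = L.1
        simp)
      mul_smul := fun a b L => Subtype.ext (by
        show L.1.image ((a * b : C) : stab0 P).1 = (L.1.image b.1.1).image a.1.1
        rw [Finset.image_image]; rfl) }
  let φ := MulAction.toPermHom C Lns
  have hrange : Nat.card φ.range ≤ 24 := by
    refine card_soluble_five (by rw [Nat.card_eq_fintype_card, Fintype.card_coe, hLns]) _ ?_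
    haveI := h.sol0
    exact Group.isSolvable_of_surjective φ.rangeRestrict_surjective
  have hker : Nat.card φ.ker ≤ 3 := by
    have hdet : ∀ a : φ.ker, a.1.1 = 1 ∨ a.1.1 = x ∨ a.1.1 = x * x := by
      intro a
      set c := a.1.1
      have hcC : c ∈ C := a.1.2
      have hline : ∀ v, v ≠ 0 → ∃ s ∈ ({1, x, x * x} : Finset (stab0 P)), c.1 v = s.1 v := by
        intro v hv
        have hL : Ln v ∈ Lns := Finset.mem_image_of_mem _ (Finset.mem_erase.2 ⟨hv, Finset.mem_univ _⟩)
        have he : (Ln v).image c.1 = Ln v := congrArg Subtype.val (Equiv.congr_fun a.2 ⟨_, hL⟩)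
        have : c.1 v ∈ Ln v := he ▸ Finset.mem_image_of_mem _ (by simp [Ln])
        simp only [Ln, Finset.mem_insert, Finset.mem_singleton] at this
        rcases this with e | e | e
        · exact ⟨1, by simp, e⟩
        · exact ⟨x, by simp, e⟩
        · exact ⟨x * x, by simp, e⟩
      obtain ⟨v0, hv0⟩ := exists_ne (0 : V 2 4)
      obtain ⟨s, hs, hcs⟩ := hline v0 hv0
      have hsx : ∀ t ∈ ({1, x, x * x} : Finset (stab0 P)), t * x = x * t := by
        intro t ht
        simp only [Finset.mem_insert, Finset.mem_singleton] at ht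
        rcases ht with rfl | rfl | rfl <;> group
      have hsdist : ∀ t ∈ ({1, x, x * x} : Finset (stab0 P)), t.1 v0 = s.1 v0 → t = s := by
        intro t ht e
        have a1 := hne v0 hv0
        have a2 := hne2 v0 hv0
        have a3 : x.1 v0 ≠ x.1 (x.1 v0) := fun e => a1 (x.1.injective e).symm
        simp only [Finset.mem_insert, Finset.mem_singleton] at hs ht
        rcases hs with rfl | rfl | rfl <;> rcases ht with rfl | rfl | rfl <;>
          first
            | rfl
            | exact absurd e a1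
            | exact absurd e.symm a1
            | exact absurd e a2
            | exact absurd e.symm a2
            | exact absurd e a3
            | exact absurd e.symm a3
      suffices hall : ∀ w, c.1 w = s.1 w by
        have : c = s := stab0_ext hall
        simp only [Finset.mem_insert, Finset.mem_singleton] at hs
        rw [this]; exact hs
      intro w
      by_cases hw : w = 0
      · rw [hw, c.2.2, s.2.2]
      by_cases hwL : w ∈ Ln v0
      · simp only [Ln, Finset.mem_insert, Finset.mem_singleton] at hwL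
        rcases hwL with rfl | rfl | rfl
        · exact hcs
        · rw [comm_apply (hC c hcC), hcs, comm_apply (hsx s hs)]
        · rw [comm_apply (hC c hcC), comm_apply (hC c hcC), hcs, comm_apply (hsx s hs),
            comm_apply (hsx s hs)]
      have hsum : v0 + w ≠ 0 := fun e => hwL (by
        have : w = v0 := by
          have h2 : v0 + v0 = 0 := funext fun j => CharTwo.add_self_eq_zero _
          exact add_left_cancel (e.trans h2.symm)
        simp [Ln, this])
      obtain ⟨t, ht, hct⟩ := hline (v0 + w) hsum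
      obtain ⟨u, hu, hcu⟩ := hline w hw
      rw [h.map_add_zero c.2.1 c.2.2, h.map_add_zero t.2.1 t.2.2, hcs, hcu] at hct
      -- the difference lies on both lines
      let K : V 2 4 → AddSubgroup (V 2 4) := fun v => AddSubgroup.closure (Ln v : Set (V 2 4))
      have hK : ∀ v z, z ∈ K v → z = 0 ∨ z ∈ Ln v := by
        intro v z hz
        have hs3 := three_sum h hx hfree v
        have h2 : ∀ q : V 2 4, q + q = 0 := fun q => funext fun j => CharTwo.add_self_eq_zero _
        have hneg : ∀ q : V 2 4, -q = q := fun q => neg_eq_of_add_eq_zero_left (h2 q)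
        have s12 : v + x.1 v = x.1 (x.1 v) := by
          rw [← hneg (x.1 (x.1 v))]; exact eq_neg_of_add_eq_zero_left hs3
        have s13 : v + x.1 (x.1 v) = x.1 v := by rw [← s12, ← add_assoc, h2, zero_add]
        have s23 : x.1 v + x.1 (x.1 v) = v := by
          rw [← s12, add_left_comm, h2, add_zero]
        have hclosed : ∀ p q : V 2 4, (p = 0 ∨ p ∈ Ln v) → (q = 0 ∨ q ∈ Ln v) → (p + q = 0 ∨ p + q ∈ Ln v) := by
          intro p q hp hq
          simp only [Ln, Finset.mem_insert, Finset.mem_singleton] at hp hq ⊢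
          have t1 : x.1 v + v = x.1 (x.1 v) := (add_comm _ _).trans s12
          have t2 : x.1 (x.1 v) + v = x.1 v := (add_comm _ _).trans s13
          have t3 : x.1 (x.1 v) + x.1 v = v := (add_comm _ _).trans s23
          rcases hp with e | e | e | e <;> rcases hq with f | f | f | f <;> rw [e, f] <;>
            simp [h2, s12, s13, s23, t1, t2, t3]
        induction hz using AddSubgroup.closure_induction with
        | mem q hq => exact Or.inr hq
        | zero => exact Or.inl rfl
        | add p q _ _ hp hq => exact hclosed p q hp hq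
        | neg p _ hp => rwa [hneg]
      have hd : s.1 v0 - t.1 v0 = t.1 w - u.1 w := by
        rw [sub_eq_sub_iff_add_eq_add, hct, add_comm]
      have hin : ∀ v, ∀ q ∈ ({1, x, x * x} : Finset (stab0 P)), q.1 v ∈ K v := by
        intro v q hq
        apply AddSubgroup.subset_closure
        simp only [Finset.mem_insert, Finset.mem_singleton] at hq
        rcases hq with rfl | rfl | rfl <;> simp [Ln]
      have hz : s.1 v0 - t.1 v0 = 0 := by
        rcases hK v0 _ ((K v0).sub_mem (hin v0 s hs) (hin v0 t ht)) with e | e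
        · exact e
        rcases hK w _ (hd ▸ (K w).sub_mem (hin w t ht) (hin w u hu)) with e' | e'
        · exact e'
        · exfalso
          apply hwL
          rw [← hLmem v0 _ e, hLmem w _ e']
          simp [Ln]
      obtain rfl : t = s := hsdist t ht (sub_eq_zero.1 hz).symm
      rw [hcu]
      rw [sub_self] at hd
      exact (sub_eq_zero.1 hd.symm).symm
    have hsub : (Set.range fun a : φ.ker => a.1.1) ⊆ ({1, x, x * x} : Set (stab0 P)) := by
      rintro _ ⟨a, rfl⟩
      exact hdet a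
    have h1 := Set.ncard_le_ncard hsub (Set.toFinite _)
    rw [Set.ncard_range_of_injective (fun a b h => Subtype.ext (Subtype.ext h))] at h1
    refine h1.trans ?_
    exact (Set.ncard_insert_le _ _).trans (Nat.succ_le_succ ((Set.ncard_insert_le _ _).trans (by simp)))
  have hC72 : Nat.card C ≤ 72 := by
    rw [← φ.ker.card_mul_index, Subgroup.index_ker]
    exact (Nat.mul_le_mul hker hrange).trans (by norm_num)
  let S : Set (stab0 P) := (N : Set (stab0 P)) \ {1}
  have hS2 : S.ncard = 2 := by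
    rw [Set.ncard_sdiff_singleton_of_mem N.one_mem, ← Nat.card_coe_set_eq]
    change Nat.card N - 1 = 2
    omega
  have h1 : Nat.card (stab0 P) ≤ Nat.card C * S.ncard := by
    rw [← C.card_mul_index, ← Nat.card_coe_set_eq, Subgroup.index_eq_card]
    refine Nat.mul_le_mul_left _ (Nat.card_le_card_of_injective
      (fun q => (⟨q.out * x * q.out⁻¹, hNn.conj_mem x hxN _, fun e => hx1 (conj_eq_one_iff.1 e)⟩ : S))
      fun p q hpq => ?_)
    have e : p.out * x * p.out⁻¹ = q.out * x * q.out⁻¹ := congrArg Subtype.val hpq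
    rw [← p.out_eq', ← q.out_eq', QuotientGroup.eq, Subgroup.mem_centralizer_singleton_iff]
    symm
    calc x * (p.out⁻¹ * q.out) = p.out⁻¹ * (p.out * x * p.out⁻¹) * q.out := by group
      _ = p.out⁻¹ * (q.out * x * q.out⁻¹) * q.out := by rw [e]
      _ = _ := by group
  calc Nat.card (stab0 P) ≤ Nat.card C * S.ncard := h1
    _ ≤ 72 * 2 := Nat.mul_le_mul hC72 hS2.le
    _ = 144 := by norm_num

set_option maxHeartbeats 1000000 in
/-- the bound for a non-cyclic minimal normal 3-subgroup -/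
theorem bound_three_plane (h : Aff 2 4 P) (N : Subgroup (stab0 P)) (hNn : N.Normal)
    (hNc : ∀ x ∈ N, ∀ y ∈ N, x * y = y * x) (hexp : ∀ x ∈ N, x ^ 3 = 1)
    (hN : 9 ≤ Nat.card N) : Nat.card (stab0 P) ≤ 144 := by
  classical
  haveI : Fact (Nat.Prime 3) := ⟨Nat.prime_three⟩
  have h2 : ∀ q : V 2 4, q + q = 0 := fun q => funext fun j => CharTwo.add_self_eq_zero _
  have hneg : ∀ q : V 2 4, -q = q := fun q => neg_eq_of_add_eq_zero_left (h2 q)
  -- some element has a fixed vector
  obtain ⟨x, hxN, hx1, hxfix⟩ : ∃ x ∈ N, x ≠ 1 ∧ fixU h x ≠ ⊥ := by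
    by_contra! hall
    have hfree : ∀ a b : N, ∀ v, v ≠ 0 → a.1.1 v = b.1.1 v → a = b := by
      intro a b v hv e
      by_contra hne
      have hb := hall (b.1⁻¹ * a.1) (N.mul_mem (N.inv_mem b.2) a.2)
        (fun he => hne (Subtype.ext (inv_mul_eq_one.1 he).symm))
      have : v ∈ fixU h (b.1⁻¹ * a.1) := by
        show (b.1⁻¹ * a.1).1 v = v
        rw [Subgroup.coe_mul, Subgroup.coe_inv, Equiv.Perm.mul_apply, e, Equiv.Perm.coe_inv,
          Equiv.symm_apply_apply]
      rw [hb, AddSubgroup.mem_bot] at this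
      exact hv this
    obtain ⟨v0, hv0⟩ := exists_ne (0 : V 2 4)
    have hc : Nat.card {v : V 2 4 // v ≠ 0} = 15 := by
      rw [Nat.card_eq_fintype_card, Fintype.card_subtype_compl, Fintype.card_subtype_eq,
        ← Nat.card_eq_fintype_card, cardV]
    let f : N → {v : V 2 4 // v ≠ 0} := fun a => ⟨a.1.1 v0, smul_ne_zero' a.1 hv0⟩
    have hfi : Function.Injective f := fun a b e => hfree a b v0 hv0 (congrArg Subtype.val e)
    have hle := Nat.card_le_card_of_injective f hfi
    rw [hc] at hle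
    obtain ⟨j, hj⟩ := IsPGroup.iff_card.1 (show IsPGroup 3 N from fun a => ⟨1, Subtype.ext (by
      rw [pow_one, Subgroup.coe_pow]; exact hexp a.1 a.2)⟩)
    have hN9 : Nat.card N = 9 := by
      rw [hj] at hle hN ⊢
      have : j ≤ 2 := by
        by_contra hlt
        have : 3 ^ 3 ≤ 3 ^ j := Nat.pow_le_pow_right (by norm_num) (by omega)
        omega
      interval_cases j <;> omega
    obtain ⟨v1, hv1⟩ : ∃ v1 : {v : V 2 4 // v ≠ 0}, v1 ∉ Set.range f := by
      by_contra! hall'
      have := Nat.card_le_card_of_surjective f hall'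
      rw [hc, hN9] at this
      omega
    let f2 : N × Bool → {v : V 2 4 // v ≠ 0} := fun q =>
      if q.2 then ⟨q.1.1.1 v1.1, smul_ne_zero' q.1.1 v1.2⟩ else f q.1
    have hcross : ∀ a b : N, (⟨a.1.1 v1.1, smul_ne_zero' a.1 v1.2⟩ : {v : V 2 4 // v ≠ 0}) ≠ f b := by
      intro a b e
      apply hv1
      refine ⟨a⁻¹ * b, Subtype.ext ?_⟩
      have e' : a.1.1 v1.1 = b.1.1 v0 := congrArg Subtype.val e
      show ((a⁻¹ * b : N) : stab0 P).1 v0 = v1.1
      rw [Subgroup.coe_mul, Subgroup.coe_inv, Subgroup.coe_mul, Subgroup.coe_inv, Equiv.Perm.mul_apply,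
        ← e', Equiv.Perm.coe_inv, Equiv.symm_apply_apply]
    have hi2 : Function.Injective f2 := by
      rintro ⟨a, _ | _⟩ ⟨b, _ | _⟩ e <;>
        simp only [f2, Bool.false_eq_true, if_false, if_true] at e
      · rw [hfi e]
      · exact absurd e.symm (hcross b a)
      · exact absurd e (hcross a b)
      · rw [hfree a b v1.1 v1.2 (congrArg Subtype.val e)]
    have := Nat.card_le_card_of_injective f2 hi2
    rw [Nat.card_prod, hN9, hc, Nat.card_eq_fintype_card, Fintype.card_bool] at this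
    omega
  set U := fixU h x
  have hU4 : Nat.card U = 4 := by
    have hm := invariant_mod h (hexp x hxN) ⊤ (fun u _ => trivial)
    rw [top_inf_eq, AddSubgroup.card_top, cardV] at hm
    have hne : Nat.card U ≠ 16 := fun e => fixU_ne_top h hx1 (U.eq_top_of_card_eq (by rw [e, cardV]))
    have hne1 : Nat.card U ≠ 1 := fun e => hxfix (U.eq_bot_of_card_eq e)
    change 16 ≡ Nat.card U [MOD 3] at hm
    rcases card_sub U with e | e | e | e | e <;> rw [e] at hm hne hne1 ⊢ <;>
      simp [Nat.ModEq] at hm hne hne1 ⊢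
  -- the commutator space
  let D : V 2 4 →+ V 2 4 := AddMonoidHom.mk' (fun v => x.1 v - v) fun a b => by
    rw [h.map_add_zero x.2.1 x.2.2]; abel
  set W := D.range
  have hDker : D.ker = U := by ext v; exact sub_eq_zero
  have hW4 : Nat.card W = 4 := by
    have := D.ker.index_mul_card
    rw [AddSubgroup.index_ker, hDker, hU4, cardV] at this
    change Nat.card W * 4 = 16 at this
    omega
  have h3 : ∀ w, x.1 (x.1 (x.1 w)) = w := fun w => by
    have := Equiv.congr_fun (congrArg Subtype.val (hexp x hxN)) w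
    simpa [pow_succ, Equiv.Perm.mul_apply] using this
  have hUW : U ⊓ W = ⊥ := by
    rw [AddSubgroup.eq_bot_iff_forall]
    rintro _ ⟨hd, v, rfl⟩
    have hd' : x.1 (x.1 v - v) = x.1 v - v := hd
    rw [h.map_sub x.2] at hd'
    have a1 : x.1 (x.1 v) = (x.1 v - v) + x.1 v := sub_eq_iff_eq_add.1 hd'
    have a2 := congrArg x.1 a1
    rw [h3, h.map_add_zero x.2.1 x.2.2, h.map_sub x.2, a1] at a2
    show x.1 v - v = 0
    calc x.1 v - v = (x.1 v - v + x.1 v - x.1 v + (x.1 v - v + x.1 v)) - v - (x.1 v - v + (x.1 v - v)) := by abel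
      _ = 0 := by rw [← a2, h2]; abel
  have hWx : ∀ w ∈ W, x.1 w ∈ W := by
    rintro _ ⟨v, rfl⟩
    exact ⟨x.1 v, (h.map_sub x.2 _ _).symm⟩
  obtain ⟨u0, hu0U, hu0⟩ : ∃ u0 ∈ U, u0 ≠ 0 := by
    by_contra! hall
    exact hxfix ((AddSubgroup.eq_bot_iff_forall U).2 hall)
  obtain ⟨w0, hw0W, hw0⟩ : ∃ w0 ∈ W, w0 ≠ 0 := by
    by_contra! hall
    rw [(AddSubgroup.eq_bot_iff_forall W).2 hall, AddSubgroup.card_bot] at hW4
    omega
  have hw0U : w0 ∉ U := fun hh => hw0 (AddSubgroup.mem_bot.1 (hUW ▸ (⟨hh, hw0W⟩ : w0 ∈ U ⊓ W)))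
  have hcardnz : ∀ Z : AddSubgroup (V 2 4), Nat.card Z = 4 → Nat.card {z : Z // z ≠ 0} = 3 := fun Z hZ => by
    rw [Nat.card_eq_fintype_card, Fintype.card_subtype_compl, Fintype.card_subtype_eq,
      ← Nat.card_eq_fintype_card, hZ]
  -- an element fixing `w0`
  have hcomx : ∀ a : stab0 P, a * x = x * a → (∀ u ∈ U, a.1 u ∈ U) ∧ ∀ w ∈ W, a.1 w ∈ W := by
    intro a ha
    refine ⟨fun u hu => ?_, ?_⟩
    · show x.1 (a.1 u) = a.1 u
      rw [← comm_apply ha, (hu : x.1 u = u)]
    · rintro _ ⟨v, rfl⟩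
      refine ⟨a.1 v, ?_⟩
      show x.1 (a.1 v) - a.1 v = a.1 (x.1 v - v)
      rw [h.map_sub a.2, comm_apply ha]
  let g : N → {z : W // z ≠ 0} := fun a =>
    ⟨⟨a.1.1 w0, (hcomx a.1 (hNc a.1 a.2 x hxN)).2 w0 hw0W⟩, fun e =>
      smul_ne_zero' a.1 hw0 (congrArg Subtype.val e)⟩
  obtain ⟨y, hyN, hy1, hyw⟩ : ∃ y ∈ N, y ≠ 1 ∧ y.1 w0 = w0 := by
    have hnot : ¬ Function.Injective g := fun hi => by
      have := Nat.card_le_card_of_injective g hi
      rw [hcardnz W hW4] at this
      omega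
    simp only [Function.Injective, not_forall] at hnot
    obtain ⟨a, b, e, hne⟩ := hnot
    refine ⟨b.1⁻¹ * a.1, N.mul_mem (N.inv_mem b.2) a.2,
      fun he => hne (Subtype.ext (inv_mul_eq_one.1 he).symm), ?_⟩
    have e' : a.1.1 w0 = b.1.1 w0 := congrArg (fun q => q.1.1) e
    rw [Subgroup.coe_mul, Subgroup.coe_inv, Equiv.Perm.mul_apply, e', Equiv.Perm.coe_inv,
      Equiv.symm_apply_apply]
  -- a fixing element of both `u0` and `w0` commuting with `x` and `y` is trivial
  set C := Subgroup.centralizer ({x, y} : Set (stab0 P))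
  have hCx : ∀ a ∈ C, a * x = x * a := fun a ha =>
    (Subgroup.mem_centralizer_iff.1 ha x (Or.inl rfl)).symm
  have hCy : ∀ a ∈ C, a * y = y * a := fun a ha =>
    (Subgroup.mem_centralizer_iff.1 ha y (Or.inr rfl)).symm
  have hbig : ∀ a ∈ C, (∀ u ∈ U, a.1 u = u) → a.1 w0 = w0 → a = 1 := by
    intro a ha hu hw
    set Z := fixU h a
    have hinv : ∀ z ∈ Z, x.1 z ∈ Z := fun z hz => by
      show a.1 (x.1 z) = x.1 z
      rw [comm_apply (hCx a ha), (hz : a.1 z = z)]
    have hm := invariant_mod h (hexp x hxN) Z hinv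
    have hUZ : U ≤ Z := hu
    rw [inf_eq_right.2 hUZ, hU4] at hm
    have hgt : 4 < Nat.card Z := by
      refine lt_of_eq_of_lt hU4.symm (lt_of_le_of_ne (AddSubgroup.card_le_of_le hUZ) fun e => hw0U ?_)
      have := AddSubgroup.eq_of_le_of_card_ge hUZ e.ge
      exact this ▸ (hw : w0 ∈ Z)
    have h16 : Nat.card Z = 16 := by
      rcases card_sub Z with e | e | e | e | e <;> rw [e] at hm hgt ⊢ <;>
        simp [Nat.ModEq] at hm hgt ⊢
    exact stab0_ext fun q => (Z.eq_top_of_card_eq (by rw [h16, cardV]) ▸ AddSubgroup.mem_top q : q ∈ Z)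
  have hNC : N ≤ C := fun n hn => Subgroup.mem_centralizer_iff.2 (by
    rintro z (rfl | rfl)
    exacts [hNc _ hxN n hn, hNc _ hyN n hn])
  have hyu : y.1 u0 ≠ u0 := by
    intro e
    set Z := U ⊓ fixU h y
    have hm := invariant_mod h (hexp y hyN) U (hcomx y (hNc y hyN x hxN)).1
    rw [hU4] at hm
    have hne : Nat.card Z ≠ 1 := fun e1 => hu0 (AddSubgroup.mem_bot.1
      (Z.eq_bot_of_card_eq e1 ▸ (⟨hu0U, e⟩ : u0 ∈ Z)))
    have hle : Nat.card Z ≤ 4 := (AddSubgroup.card_le_of_le (inf_le_left : Z ≤ U)).trans_eq hU4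
    have h4 : Nat.card Z = 4 := by
      change 4 ≡ Nat.card Z [MOD 3] at hm
      rcases card_sub Z with e | e | e | e | e <;> rw [e] at hm hne hle ⊢ <;>
        simp [Nat.ModEq] at hm hne hle ⊢
    have hZU : Z = U := AddSubgroup.eq_of_le_of_card_ge (inf_le_left : Z ≤ U) (by rw [hU4, h4])
    have hUy : ∀ u ∈ U, y.1 u = u := fun u hu => by
      have h' : u ∈ Z := by rw [hZU]; exact hu
      exact h'.2
    exact hy1 (hbig y (hNC hyN) hUy hyw)
  have hytr : ∀ u ∈ U, u = 0 ∨ u = u0 ∨ u = y.1 u0 ∨ u = u0 + y.1 u0 := by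
    intro u hu
    have hy0U := (hcomx y (hNc y hyN x hxN)).1 u0 hu0U
    by_contra! hne
    have h5 : ({0, u0, y.1 u0, u0 + y.1 u0, u} : Finset (V 2 4)).card = 5 := by
      have a1 : u0 + y.1 u0 ≠ 0 := fun e => hyu (add_left_cancel (e.trans (h2 u0).symm))
      have a2 : u0 + y.1 u0 ≠ u0 := fun e => smul_ne_zero' y hu0 (add_eq_left.1 e)
      have a3 : u0 + y.1 u0 ≠ y.1 u0 := fun e => hu0 (add_eq_right.1 e)
      obtain ⟨b1, b2, b3, b4⟩ := hne
      simp [Ne.symm hu0, Ne.symm (smul_ne_zero' y hu0), a1.symm, b1.symm, hyu.symm, a2.symm, b2.symm,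
        a3.symm, b3.symm, b4.symm]
    have hsub : (({0, u0, y.1 u0, u0 + y.1 u0, u} : Finset (V 2 4)) : Set (V 2 4)) ⊆ U := by
      intro q hq
      simp only [Finset.coe_insert, Finset.coe_singleton, Set.mem_insert_iff, Set.mem_singleton_iff] at hq
      rcases hq with rfl | rfl | rfl | rfl | rfl
      exacts [U.zero_mem, hu0U, hy0U, U.add_mem hu0U hy0U, hu]
    have := Set.ncard_le_ncard hsub (Set.toFinite _)
    rw [Set.ncard_coe_finset, h5, ← Nat.card_coe_set_eq] at this
    change 5 ≤ Nat.card U at this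
    omega
  have hCU : ∀ a ∈ C, a.1 u0 = u0 → ∀ u ∈ U, a.1 u = u := by
    intro a ha e u hu
    rcases hytr u hu with rfl | rfl | rfl | rfl
    · exact a.2.2
    · exact e
    · rw [comm_apply (hCy a ha), e]
    · rw [h.map_add_zero a.2.1 a.2.2, comm_apply (hCy a ha), e]
  let pr : C → {z : U // z ≠ 0} × {z : W // z ≠ 0} := fun a =>
    (⟨⟨a.1.1 u0, (hcomx a.1 (hCx a.1 a.2)).1 u0 hu0U⟩, fun e => smul_ne_zero' a.1 hu0 (congrArg Subtype.val e)⟩,
     ⟨⟨a.1.1 w0, (hcomx a.1 (hCx a.1 a.2)).2 w0 hw0W⟩, fun e => smul_ne_zero' a.1 hw0 (congrArg Subtype.val e)⟩)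
  have hpr : Function.Injective pr := by
    intro a b e
    have e1 : a.1.1 u0 = b.1.1 u0 := congrArg (fun q => q.1.1.1) e
    have e2 : a.1.1 w0 = b.1.1 w0 := congrArg (fun q => q.2.1.1) e
    have hc : b.1⁻¹ * a.1 ∈ C := C.mul_mem (C.inv_mem b.2) a.2
    have := hbig _ hc (hCU _ hc (by
      rw [Subgroup.coe_mul, Subgroup.coe_inv, Equiv.Perm.mul_apply, e1, Equiv.Perm.coe_inv,
        Equiv.symm_apply_apply])) (by
      rw [Subgroup.coe_mul, Subgroup.coe_inv, Equiv.Perm.mul_apply, e2, Equiv.Perm.coe_inv,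
        Equiv.symm_apply_apply])
    exact Subtype.ext (inv_mul_eq_one.1 this).symm
  have hC9 : Nat.card C ≤ 9 := by
    have := Nat.card_le_card_of_injective pr hpr
    rw [Nat.card_prod, hcardnz U hU4, hcardnz W hW4] at this
    omega
  -- elements with a fixed vector
  let S : Set (stab0 P) := {n | n ∈ N ∧ n ≠ 1 ∧ fixU h n ≠ ⊥}
  have hS4 : S.ncard ≤ 4 := by
    have hkey : ∀ n ∈ S, n.1 u0 = u0 ∨ n.1 w0 = w0 := by
      rintro n ⟨hn, -, hfx⟩
      by_contra! hne
      apply hfx
      rw [AddSubgroup.eq_bot_iff_forall]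
      intro q hq
      have hsum : U ⊔ W = ⊤ := by
        refine AddSubgroup.eq_top_of_card_eq _ ?_
        rw [cardV]
        let add : U × W → (U ⊔ W : AddSubgroup (V 2 4)) := fun p =>
          ⟨p.1.1 + p.2.1, AddSubgroup.add_mem_sup p.1.2 p.2.2⟩
        have hi : Function.Injective add := by
          rintro ⟨a, b⟩ ⟨a', b'⟩ e
          have e' : a.1 + b.1 = a'.1 + b'.1 := congrArg Subtype.val e
          have e'' : a.1 - a'.1 = b'.1 - b.1 := by rw [sub_eq_sub_iff_add_eq_add, e', add_comm]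
          have hz : a.1 - a'.1 ∈ U ⊓ W := ⟨U.sub_mem a.2 a'.2, e'' ▸ W.sub_mem b'.2 b.2⟩
          rw [hUW, AddSubgroup.mem_bot] at hz
          rw [hz] at e''
          exact Prod.ext (Subtype.ext (sub_eq_zero.1 hz)) (Subtype.ext (sub_eq_zero.1 e''.symm).symm)
        have h16 := Nat.card_le_card_of_injective add hi
        rw [Nat.card_prod, hU4, hW4] at h16
        rcases card_sub (U ⊔ W) with e | e | e | e | e <;> omega
      obtain ⟨u, hu, w, hw, rfl⟩ := AddSubgroup.mem_sup.1 (hsum.symm ▸ AddSubgroup.mem_top q : q ∈ U ⊔ W)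
      obtain ⟨c1, c2⟩ := hcomx n (hNc n hn x hxN)
      have hq' : n.1 u + n.1 w = u + w := (h.map_add_zero n.2.1 n.2.2 u w).symm.trans hq
      have hd : n.1 u - u = w - n.1 w := by rw [sub_eq_sub_iff_add_eq_add, hq', add_comm]
      have hz : n.1 u - u ∈ U ⊓ W := ⟨U.sub_mem (c1 u hu) hu, hd ▸ W.sub_mem hw (c2 w hw)⟩
      rw [hUW, AddSubgroup.mem_bot] at hz
      have hnu : n.1 u = u := sub_eq_zero.1 hz
      rw [hz] at hd
      have hnw : n.1 w = w := (sub_eq_zero.1 hd.symm).symm
      have hu' : u = 0 := by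
        by_contra hu'
        apply hne.1
        have key : ∀ q, n.1 q = q → n.1 (y.1 q) = y.1 q := fun q hq => by
          rw [comm_apply (hNc n hn y hyN), hq]
        have hy3 : ∀ q, y.1 (y.1 (y.1 q)) = q := fun q => by
          have := Equiv.congr_fun (congrArg Subtype.val (hexp y hyN)) q
          simpa [pow_succ, Equiv.Perm.mul_apply] using this
        rcases hytr u hu with e | e | e | e
        · exact absurd e hu'
        · rw [← e]; exact hnu
        · have := key _ (key _ hnu)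
          rwa [e, hy3] at this
        · have a1 := key _ hnu
          rw [e, h.map_add_zero y.2.1 y.2.2] at a1
          have a2 := h.map_add_zero n.2.1 n.2.2 (u0 + y.1 u0) (y.1 u0 + y.1 (y.1 u0))
          rw [e] at hnu
          rw [hnu, a1] at a2
          have a4 : u0 + y.1 u0 + (y.1 u0 + y.1 (y.1 u0)) = u0 + y.1 (y.1 u0) := by
            calc u0 + y.1 u0 + (y.1 u0 + y.1 (y.1 u0)) = u0 + (y.1 u0 + y.1 u0) + y.1 (y.1 u0) := by abel
              _ = _ := by rw [h2, add_zero]
          rw [a4] at a2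
          rcases hytr (u0 + y.1 (y.1 u0)) (U.add_mem hu0U ((hcomx y (hNc y hyN x hxN)).1 _
            ((hcomx y (hNc y hyN x hxN)).1 u0 hu0U))) with f | f | f | f
          · exact absurd (add_left_cancel (f.trans (h2 u0).symm)) (fun g => hyu (by
              calc y.1 u0 = y.1 (y.1 (y.1 u0)) := by rw [g]
                _ = u0 := hy3 u0))
          · exact absurd (add_eq_left.1 f) (smul_ne_zero' y (smul_ne_zero' y hu0))
          · have := key _ (key _ a2)
            rwa [f, hy3] at this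
          · exact absurd (y.1.injective (add_left_cancel f)) hyu
      rw [hu', zero_add]
      by_contra hw'
      apply hne.2
      have key : ∀ q, n.1 q = q → n.1 (x.1 q) = x.1 q := fun q hq => by
        rw [comm_apply (hNc n hn x hxN), hq]
      set Z := W ⊓ fixU h n
      have hZinv : ∀ q ∈ Z, x.1 q ∈ Z := fun q hq => ⟨hWx q hq.1, key q hq.2⟩
      have hm := invariant_mod h (hexp x hxN) Z hZinv
      have hbot : Z ⊓ U = ⊥ := by
        rw [eq_bot_iff, ← hUW]
        exact fun q hq => ⟨hq.2, hq.1.1⟩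
      change Nat.card Z ≡ Nat.card (Z ⊓ U : AddSubgroup (V 2 4)) [MOD 3] at hm
      rw [hbot, AddSubgroup.card_bot] at hm
      have hne1 : Nat.card Z ≠ 1 := fun e1 => hw' (AddSubgroup.mem_bot.1
        (Z.eq_bot_of_card_eq e1 ▸ (⟨hw, hnw⟩ : w ∈ Z)))
      have hle : Nat.card Z ≤ 4 := (AddSubgroup.card_le_of_le (inf_le_left : Z ≤ W)).trans_eq hW4
      have h4 : Nat.card Z = 4 := by
        rcases card_sub Z with e | e | e | e | e <;> rw [e] at hm hne1 hle ⊢ <;>
          simp [Nat.ModEq] at hm hne1 hle ⊢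
      have hZW : Z = W := AddSubgroup.eq_of_le_of_card_ge (inf_le_left : Z ≤ W) (by rw [hW4, h4])
      have h' : w0 ∈ Z := by rw [hZW]; exact hw0W
      exact h'.2
    let T : Set ({z : U // z ≠ 0} × {z : W // z ≠ 0}) :=
      {p | (p.1.1.1 = u0 ∧ p.2.1.1 ≠ w0) ∨ (p.1.1.1 ≠ u0 ∧ p.2.1.1 = w0)}
    have hT : T.ncard ≤ 4 := by
      let A : Set {z : U // z ≠ 0} := {p | p.1.1 = u0}
      let B : Set {z : W // z ≠ 0} := {p | p.1.1 = w0}
      have hA : A.ncard = 1 := Set.ncard_eq_one.2 ⟨⟨⟨u0, hu0U⟩, fun e => hu0 (congrArg Subtype.val e)⟩,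
        Set.ext fun p => ⟨fun hp => Subtype.ext (Subtype.ext hp),
          fun hp => by rw [Set.mem_singleton_iff.1 hp]; exact rfl⟩⟩
      have hB : B.ncard = 1 := Set.ncard_eq_one.2 ⟨⟨⟨w0, hw0W⟩, fun e => hw0 (congrArg Subtype.val e)⟩,
        Set.ext fun p => ⟨fun hp => Subtype.ext (Subtype.ext hp),
          fun hp => by rw [Set.mem_singleton_iff.1 hp]; exact rfl⟩⟩
      have hAc : Aᶜ.ncard = 2 := by rw [Set.ncard_compl, hcardnz U hU4, hA]
      have hBc : Bᶜ.ncard = 2 := by rw [Set.ncard_compl, hcardnz W hW4, hB]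
      have : T ⊆ A ×ˢ Bᶜ ∪ Aᶜ ×ˢ B := fun p hp => hp
      refine (Set.ncard_le_ncard this (Set.toFinite _)).trans ((Set.ncard_union_le _ _).trans ?_)
      rw [Set.ncard_prod, Set.ncard_prod, hA, hB, hAc, hBc]
    refine le_trans ?_ hT
    refine Set.ncard_le_ncard_of_injOn (fun n => if hn : n ∈ C then pr ⟨n, hn⟩ else
      (⟨⟨u0, hu0U⟩, fun e => hu0 (congrArg Subtype.val e)⟩, ⟨⟨w0, hw0W⟩, fun e => hw0 (congrArg Subtype.val e)⟩))
      (fun n hn => ?_) (fun n hn m hm e => ?_) (Set.toFinite _)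
    · have hnC := hNC hn.1
      rw [dif_pos hnC]
      rcases hkey n hn with e | e
      · exact Or.inl ⟨e, fun e' => hn.2.1 (hbig n hnC (hCU n hnC e) e')⟩
      · exact Or.inr ⟨fun e' => hn.2.1 (hbig n hnC (hCU n hnC e') e), e⟩
    · simp only [dif_pos (hNC hn.1), dif_pos (hNC hm.1)] at e
      exact congrArg Subtype.val (hpr e)
  have hfixconj : ∀ g n : stab0 P, n ∈ S → g * n * g⁻¹ ∈ S := by
    rintro g n ⟨hn, hn1, hfx⟩
    refine ⟨hNn.conj_mem n hn g, fun e => hn1 (conj_eq_one_iff.1 e), fun e => hfx ?_⟩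
    rw [AddSubgroup.eq_bot_iff_forall]
    intro q hq
    have : g.1 q ∈ fixU h (g * n * g⁻¹) := by
      show (g * n * g⁻¹).1 (g.1 q) = g.1 q
      simp only [Subgroup.coe_mul, Subgroup.coe_inv, Equiv.Perm.mul_apply, Equiv.Perm.coe_inv,
        Equiv.symm_apply_apply]
      rw [(hq : n.1 q = q)]
    rw [e, AddSubgroup.mem_bot] at this
    by_contra hq0
    exact smul_ne_zero' g hq0 this
  have hxS : x ∈ S := ⟨hxN, hx1, hxfix⟩
  have hyS : y ∈ S := ⟨hyN, hy1, fun e => hw0 (AddSubgroup.mem_bot.1 (e ▸ (hyw : w0 ∈ fixU h y)))⟩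
  refine (card_le_mul_conj x y S fun g => ⟨hfixconj g x hxS, hfixconj g y hyS⟩).trans ?_
  calc _ ≤ 9 * (4 * 4) := Nat.mul_le_mul hC9 (Nat.mul_le_mul hS4 hS4)
    _ = 144 := by norm_num

/-- the bound -/
theorem card_stab0_sixteen (h : Aff 2 4 P) : Nat.card (stab0 P) ≤ 144 := by
  classical
  haveI : Fact (Nat.Prime 2) := ⟨Nat.prime_two⟩
  obtain ⟨p, hp, hpd, N, hNn, hNne, hNc, hexp, hfix⟩ := exists_linear_normal h (by norm_num)
  have hp35 : p = 3 ∨ p = 5 := by
    have h15 : p ∣ 15 := hpd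
    have := Nat.le_of_dvd (by norm_num) h15
    interval_cases p <;> first | omega | (exfalso; revert hp h15; norm_num)
  rcases hp35 with rfl | rfl
  · haveI : Fact (Nat.Prime 3) := ⟨Nat.prime_three⟩
    obtain ⟨j, hj⟩ := IsPGroup.iff_card.1 (show IsPGroup 3 N from fun a => ⟨1, Subtype.ext (by
      rw [pow_one, Subgroup.coe_pow]; exact hexp a.1 a.2)⟩)
    rcases Nat.lt_or_ge j 2 with hj2 | hj2
    · have hj1 : j = 1 := by
        by_contra hne
        obtain rfl : j = 0 := by omega
        exact hNne (Subgroup.card_eq_one.1 hj)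
      rw [hj1, pow_one] at hj
      obtain ⟨⟨x, hxN⟩, hy⟩ := Subgroup.ne_bot_iff_exists_ne_one.1 hNne
      have hx1 : x ≠ 1 := fun e => hy (Subtype.ext e)
      refine bound_three_cyclic h N hNn (hexp x hxN) hx1 hxN hj ?_
      rw [AddSubgroup.eq_bot_iff_forall]
      intro q hq
      refine hfix q fun n hn => ?_
      haveI : Fact (Nat.card N).Prime := ⟨by rw [hj]; norm_num⟩
      let St : Subgroup N :=
        { carrier := {a | a.1.1 q = q}
          one_mem' := rfl
          mul_mem' := fun {a b} ha hb => by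
            show a.1.1 (b.1.1 q) = q
            rw [(hb : b.1.1 q = q), (ha : a.1.1 q = q)]
          inv_mem' := fun {a} ha => by
            show a.1.1.symm q = q
            rw [Equiv.symm_apply_eq]; exact (ha : a.1.1 q = q).symm }
      rcases St.eq_bot_or_eq_top_of_prime_card with hb | ht
      · exact absurd (Subgroup.mem_bot.1 (hb ▸ (hq : (⟨x, hxN⟩ : N) ∈ St))) hy
      · exact (ht ▸ Subgroup.mem_top _ : (⟨n, hn⟩ : N) ∈ St)
    · exact bound_three_plane h N hNn hNc hexp (hj ▸ le_trans (by norm_num)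
        (Nat.pow_le_pow_right (show 0 < 3 by norm_num) hj2))
  · exact bound_five h N hNn hNne hNc hexp

end CfsgLib.OrbitStab.PrimSets
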