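import Cfsg.Agent.Lib.FgsC.OrbitStab.PrimSubsets.Cert
import Cfsg.Agent.Lib.FgsC.OrbitStab.PrimSubsets.SixteenBound
import Cfsg.Agent.Lib.Classical.Order

/-!
# Five inequivalent subsets in the space of order sixteen

One orbit of eight-element sets of the whole affine group has length `10080` and stabiliser of derived
length two, and a soluble irreducible group has order at most `16 * 144`.
-/

set_option autoImplicit false
set_option linter.unusedSectionVars false
set_option linter.style.haveILetI false
set_option maxRecDepth 100000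

namespace CfsgLib.OrbitStab.PrimSets

open scoped commutatorElement

/-- the code of a vector -/
def code (x : V 2 4) : ℕ := (x 0).val + 2 * (x 1).val + 4 * (x 2).val + 8 * (x 3).val

/-- the codes of the set -/
def eight : List ℕ := [0, 1, 2, 4, 8, 3, 5, 10]

/-- the affine map with given images, on codes -/
def appN (f : ℕ × ℕ × ℕ × ℕ × ℕ) (x : ℕ) : ℕ :=
  f.1 ^^^ (if x.testBit 0 then f.2.1 ^^^ f.1 else 0) ^^^ (if x.testBit 1 then f.2.2.1 ^^^ f.1 else 0) ^^^
    (if x.testBit 2 then f.2.2.2.1 ^^^ f.1 else 0) ^^^ (if x.testBit 3 then f.2.2.2.2 ^^^ f.1 else 0)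

/-- the candidates for the stabiliser -/
def candN : List (ℕ × ℕ × ℕ × ℕ × ℕ) :=
  eight.flatMap fun t => eight.flatMap fun a => eight.flatMap fun b =>
    if eight.contains (a ^^^ b ^^^ t) then
      eight.flatMap fun c => if eight.contains (a ^^^ c ^^^ t) then
        eight.flatMap fun d => if eight.contains (b ^^^ d ^^^ t) &&
            decide ([t, a, b, c, d, a ^^^ b ^^^ t, a ^^^ c ^^^ t, b ^^^ d ^^^ t].Nodup) then
          [(t, a, b, c, d)] else []
      else []
    else []

/-- the candidates for commutators -/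
def comN : List (ℕ × ℕ × ℕ × ℕ × ℕ) :=
  candN.filter fun c => candN.any fun a => candN.any fun b =>
    eight.all fun x => appN c (appN b (appN a x)) == appN a (appN b x)

theorem candN_length : candN.length ≤ 32 := by decide +kernel

theorem comN_ok : ∀ c ∈ comN, ∀ d ∈ comN, ∀ x ∈ eight, appN c (appN d x) = appN d (appN c x) := by
  have h : (comN.all fun c => comN.all fun d =>
      eight.all fun x => appN c (appN d x) == appN d (appN c x)) = true := by decide +kernel
  intro c hc d hd x hx
  simp only [List.all_eq_true, beq_iff_eq] at h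
  exact h c hc d hd x hx

theorem code_injective : Function.Injective code := by
  unfold Function.Injective; decide +kernel

theorem code_add : ∀ x y : V 2 4, code (x + y) = code x ^^^ code y := by decide +kernel

theorem code_smul : ∀ (c : ZMod 2) (x : V 2 4), code (c • x) = if c = 1 then code x else 0 := by
  decide +kernel

theorem code_sub : ∀ x y : V 2 4, code (x - y) = code x ^^^ code y := by decide +kernel

theorem code_bits : ∀ x : V 2 4, (code x).testBit 0 = decide (x 0 = 1) ∧
    (code x).testBit 1 = decide (x 1 = 1) ∧ (code x).testBit 2 = decide (x 2 = 1) ∧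
    (code x).testBit 3 = decide (x 3 = 1) := by decide +kernel

theorem code_app (f : Fin 5 → V 2 4) (x : V 2 4) :
    code (app f x) = appN (code (f 0), code (f 1), code (f 2), code (f 3), code (f 4)) (code x) := by
  obtain ⟨b0, b1, b2, b3⟩ := code_bits x
  simp only [app, Fin.sum_univ_four, code_add, code_smul, code_sub, appN, b0, b1, b2, b3,
    decide_eq_true_eq, ← Nat.xor_assoc]
  rfl

/-- the whole affine group -/
def agl : Subgroup (Equiv.Perm (V 2 4)) where
  carrier := {g | ∀ x y, g (x + y) + g 0 = g x + g y}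
  one_mem' := fun x y => by simp
  mul_mem' := fun {g l} hg hl x y => by
    have a := hg (l (x + y)) (l 0)
    rw [hl x y] at a
    have b := hg (l x) (l y)
    simp only [Equiv.Perm.mul_apply]
    rw [← a, b]
  inv_mem' := fun {g} hg x y => g.injective (add_right_cancel (b := g 0) (by
    have a := hg (g⁻¹ (x + y)) (g⁻¹ 0)
    have b := hg (g⁻¹ x) (g⁻¹ y)
    simp only [Equiv.Perm.coe_inv, Equiv.apply_symm_apply] at a b ⊢
    rw [a, b, add_zero]))

theorem eq_app16 {g : Equiv.Perm (V 2 4)} (hg : g ∈ agl) (x : V 2 4) :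
    g x = app (Fin.cons (g 0) fun i => g (unit i)) x := by
  have hlin : ∀ a b, g (a + b) - g 0 = (g a - g 0) + (g b - g 0) := fun a b => by
    have := hg a b
    calc g (a + b) - g 0 = (g (a + b) + g 0) - g 0 - g 0 := by abel
      _ = _ := by rw [this]; abel
  let L : V 2 4 →+ V 2 4 := AddMonoidHom.mk' (fun x => g x - g 0) hlin
  have hx : x = ∑ i, x i • unit i := by funext j; simp [unit, Finset.sum_apply]
  have h1 : g x - g 0 = L x := rfl
  conv_rhs at h1 => rw [hx, map_sum]
  have h2 : ∀ i, L (x i • unit i) = x i • (g (unit i) - g 0) := fun i => ZMod.map_smul _ _ _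
  simp only [h2] at h1
  simp only [app, Fin.cons_zero, Fin.cons_succ, ← h1]
  abel

/-- the set of eight vectors -/
def S8 : Set (V 2 4) := {x | code x ∈ eight}

/-- the code of an affine map -/
def par (g : Equiv.Perm (V 2 4)) : ℕ × ℕ × ℕ × ℕ × ℕ :=
  (code (g 0), code (g (unit 0)), code (g (unit 1)), code (g (unit 2)), code (g (unit 3)))

theorem code_act {g : Equiv.Perm (V 2 4)} (hg : g ∈ agl) (x : V 2 4) :
    code (g x) = appN (par g) (code x) := by
  conv_lhs => rw [eq_app16 hg x]
  rw [code_app]
  rfl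

theorem par_injOn {g l : Equiv.Perm (V 2 4)} (hg : g ∈ agl) (hl : l ∈ agl) (h : par g = par l) :
    g = l := Equiv.ext fun x => code_injective (by rw [code_act hg, code_act hl, h])

theorem par_cand {g : Equiv.Perm (V 2 4)} (hg : g ∈ agl) (hk : Keeps S8 g) : par g ∈ candN := by
  have himg : ∀ n ∈ eight, ∃ x : V 2 4, code x = n := by decide +kernel
  have key : ∀ n ∈ eight, appN (par g) n ∈ eight := fun n hn => by
    obtain ⟨x, rfl⟩ := himg n hn
    rw [← code_act hg]
    exact (hk x).2 hn
  have inj : ∀ n ∈ eight, ∀ m ∈ eight, appN (par g) n = appN (par g) m → n = m := fun n hn m hm e => by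
    obtain ⟨x, rfl⟩ := himg n hn
    obtain ⟨y, rfl⟩ := himg m hm
    rw [← code_act hg, ← code_act hg] at e
    rw [g.injective (code_injective e)]
  have hnd : (eight.map (appN (par g))).Nodup :=
    List.Nodup.map_on inj (by decide)
  generalize par g = f at key hnd ⊢
  obtain ⟨t, a, b, c, d⟩ := f
  have e1 : eight.map (appN (t, a, b, c, d)) =
      [t, a, b, c, d, a ^^^ b ^^^ t, a ^^^ c ^^^ t, b ^^^ d ^^^ t] := by
    have x0 : ∀ p q : ℕ, q ^^^ (p ^^^ q) = p := fun p q => by
      rw [Nat.xor_comm p q, ← Nat.xor_assoc, Nat.xor_self, Nat.zero_xor]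
    have x1 : ∀ p q s : ℕ, s ^^^ (p ^^^ s) ^^^ (q ^^^ s) = p ^^^ q ^^^ s := fun p q s => by
      rw [x0, Nat.xor_assoc]
    simp [eight, appN, Nat.testBit, Nat.shiftRight_eq_div_pow, x0, Nat.xor_assoc]
  have hm : ∀ y ∈ eight.map (appN (t, a, b, c, d)), y ∈ eight := by
    intro y hy
    obtain ⟨n, hn, rfl⟩ := List.mem_map.1 hy
    exact key n hn
  rw [e1] at hm hnd
  simp only [List.forall_mem_cons] at hm
  obtain ⟨ht, ha, hb, hc, hd, h5, h6, h7, -⟩ := hm
  unfold candN
  simp only [List.mem_flatMap]
  refine ⟨t, ht, a, ha, b, hb, ?_⟩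
  rw [if_pos (List.contains_iff_mem.2 h5)]
  simp only [List.mem_flatMap]
  refine ⟨c, hc, ?_⟩
  rw [if_pos (List.contains_iff_mem.2 h6)]
  simp only [List.mem_flatMap]
  refine ⟨d, hd, ?_⟩
  rw [if_pos (by simp only [Bool.and_eq_true, decide_eq_true_eq]; exact ⟨List.contains_iff_mem.2 h7, hnd⟩)]
  simp

/-- the stabiliser in the affine group has derived length two -/
theorem meta_eight : Meta agl S8 := by
  let St : Subgroup (Equiv.Perm (V 2 4)) :=
    { carrier := {g | Keeps S8 g}
      one_mem' := fun x => Iff.rfl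
      mul_mem' := fun {g l} hg hl x => (hg (l x)).trans (hl x)
      inv_mem' := fun {g} hg x => by
        rw [← hg (g⁻¹ x), Equiv.Perm.coe_inv, Equiv.apply_symm_apply] }
  have hcom : ∀ a ∈ agl, ∀ b ∈ agl, Keeps S8 a → Keeps S8 b → ⁅a, b⁆ ∈ agl ∧ par ⁅a, b⁆ ∈ comN := by
    intro a ha b hb hka hkb
    have hP : ⁅a, b⁆ ∈ agl := by
      rw [commutatorElement_def]
      exact agl.mul_mem (agl.mul_mem (agl.mul_mem ha hb) (agl.inv_mem ha)) (agl.inv_mem hb)
    have hk : Keeps S8 ⁅a, b⁆ := by
      show ⁅a, b⁆ ∈ St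
      rw [commutatorElement_def]
      exact St.mul_mem (St.mul_mem (St.mul_mem hka hkb) (St.inv_mem hka)) (St.inv_mem hkb)
    refine ⟨hP, ?_⟩
    simp only [comN, List.mem_filter, List.any_eq_true, List.all_eq_true, beq_iff_eq]
    refine ⟨par_cand hP hk, par a, par_cand ha hka, par b, par_cand hb hkb, fun n hn => ?_⟩
    obtain ⟨x, rfl⟩ : ∃ x : V 2 4, code x = n := by
      revert n; decide +kernel
    rw [← code_act ha, ← code_act hb, ← code_act hP, ← code_act hb, ← code_act ha]
    simp [commutatorElement_def]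
  intro a ha b hb c hc d hd h1 h2 h3 h4
  rw [commutatorElement_eq_one_iff_commute]
  obtain ⟨hp, hp'⟩ := hcom a ha b hb h1 h2
  obtain ⟨hq, hq'⟩ := hcom c hc d hd h3 h4
  set p := ⁅a, b⁆
  set q := ⁅c, d⁆
  show p * q = q * p
  refine par_injOn (agl.mul_mem hp hq) (agl.mul_mem hq hp) ?_
  have hb' : ∀ x : V 2 4, code x ∈ eight → code ((p * q) x) = code ((q * p) x) := fun x hx => by
    rw [Equiv.Perm.mul_apply, Equiv.Perm.mul_apply, code_act hp, code_act hq, code_act hq (p x),
      code_act hp x]
    exact comN_ok _ hp' _ hq' _ hx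
  simp only [par, hb' 0 (by decide +kernel), hb' (unit 0) (by decide +kernel),
    hb' (unit 1) (by decide +kernel), hb' (unit 2) (by decide +kernel), hb' (unit 3) (by decide +kernel)]

theorem card_agl : 322560 ≤ Nat.card agl := by
  classical
  have hmul : ∀ (M : GL (Fin 4) (ZMod 2)) (v : V 2 4),
      ((M⁻¹ : GL (Fin 4) (ZMod 2)) : Matrix (Fin 4) (Fin 4) (ZMod 2)).mulVec
        ((M : Matrix (Fin 4) (Fin 4) (ZMod 2)).mulVec v) = v := fun M v => by
    rw [Matrix.mulVec_mulVec, ← Units.val_mul, inv_mul_cancel, Units.val_one, Matrix.one_mulVec]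
  let f : GL (Fin 4) (ZMod 2) × V 2 4 → agl := fun p =>
    ⟨{ toFun := fun x => (p.1 : Matrix (Fin 4) (Fin 4) (ZMod 2)).mulVec x + p.2
       invFun := fun y => ((p.1⁻¹ : GL (Fin 4) (ZMod 2)) : Matrix (Fin 4) (Fin 4) (ZMod 2)).mulVec (y - p.2)
       left_inv := fun x => by simp only [add_sub_cancel_right, hmul]
       right_inv := fun y => by
         have := hmul p.1⁻¹ (y - p.2)
         rw [inv_inv] at this
         simp only [this, sub_add_cancel] },
     fun x y => by simp [Matrix.mulVec_add, Matrix.mulVec_zero]; abel⟩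
  have hf : Function.Injective f := by
    rintro ⟨M, t⟩ ⟨M', t'⟩ e
    have e' : ∀ x, (M : Matrix (Fin 4) (Fin 4) (ZMod 2)).mulVec x + t =
        (M' : Matrix (Fin 4) (Fin 4) (ZMod 2)).mulVec x + t' :=
      fun x => Equiv.congr_fun (congrArg Subtype.val e) x
    have ht : t = t' := by simpa using e' 0
    subst ht
    exact Prod.ext (Units.ext (Matrix.ext_of_mulVec_single fun i => add_right_cancel (e' _))) rfl
  haveI : Fact (Nat.Prime 2) := ⟨Nat.prime_two⟩
  have h := Nat.card_le_card_of_injective f hf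
  rw [Nat.card_prod, CfsgLib.Classical.card_GL_fin, Nat.card_zmod, cardV] at h
  simpa [Fin.prod_univ_four] using h

theorem good_sixteen {P : Subgroup (Equiv.Perm (V 2 4))} (h : Aff 2 4 P) : Good P := by
  classical
  haveI : Fact (Nat.Prime 2) := ⟨Nat.prime_two⟩
  let f : agl → Set (V 2 4) := fun g => (g.1.symm : V 2 4 → V 2 4) ⁻¹' S8
  have hPle : P ≤ agl := fun g hg => h.add g hg
  refine good_of_many P (Set.range f) ?_ ?_
  · have hP : Nat.card P ≤ 2304 := by
      rw [card_eq h]
      exact (Nat.mul_le_mul_left _ (card_stab0_sixteen h)).trans (by norm_num)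
    have hU : Nat.card agl ≤ (Set.range f).ncard * 32 := by
      choose rep hrep using fun T : Set.range f => T.2
      let st := {g : agl // Keeps S8 g.1}
      have hst : Nat.card st ≤ 32 := by
        refine le_trans ?_ candN_length
        refine (Nat.card_le_card_of_injective
          (fun g : st => (⟨par g.1.1, List.mem_toFinset.2 (par_cand g.1.2 g.2)⟩ : candN.toFinset))
          fun a b e => Subtype.ext (Subtype.ext (par_injOn a.1.2 b.1.2 (congrArg Subtype.val e)))).trans ?_
        rw [Nat.card_eq_fintype_card, Fintype.card_coe]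
        exact List.toFinset_card_le _
      refine le_trans (Nat.card_le_card_of_injective (fun g : agl =>
        (((⟨f g, g, rfl⟩ : Set.range f), (⟨(rep ⟨f g, g, rfl⟩)⁻¹ * g, ?_⟩ : st)) :
          Set.range f × st)) ?_) ?_
      · intro x
        have e := hrep ⟨f g, g, rfl⟩
        set l := rep ⟨f g, g, rfl⟩
        have e' := Set.ext_iff.1 e (g.1 x)
        simp only [f, Set.mem_preimage, Equiv.Perm.coe_inv, Equiv.symm_apply_apply] at e'
        simp only [Subgroup.coe_mul, Subgroup.coe_inv, Equiv.Perm.mul_apply, Equiv.Perm.coe_inv]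
        exact e'
      · intro a b e
        simp only [Prod.mk.injEq, Subtype.mk.injEq] at e
        obtain ⟨e1, e2⟩ := e
        have e2' := congrArg Subtype.val e2
        simp only [e1] at e2'
        exact mul_left_cancel e2'
      · rw [Nat.card_prod, Nat.card_coe_set_eq]
        exact Nat.mul_le_mul_left _ hst
    have := card_agl
    omega
  · rintro _ ⟨g, rfl⟩ a ha b hb c hc d hd h1 h2 h3 h4
    let cj : Equiv.Perm (V 2 4) → Equiv.Perm (V 2 4) := fun p => g.1⁻¹ * p * g.1
    have hcj : ∀ p ∈ P, cj p ∈ agl := fun p hp =>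
      agl.mul_mem (agl.mul_mem (agl.inv_mem g.2) (hPle hp)) g.2
    have hk : ∀ p, Keeps (f g) p → Keeps S8 (cj p) := fun p hp x => by
      have := hp (g.1 x)
      simp only [f, Set.mem_preimage, Equiv.Perm.coe_inv, Equiv.symm_apply_apply] at this
      simp only [cj, Equiv.Perm.mul_apply, Equiv.Perm.coe_inv]
      exact this
    have := meta_eight _ (hcj a ha) _ (hcj b hb) _ (hcj c hc) _ (hcj d hd)
      (hk a h1) (hk b h2) (hk c h3) (hk d h4)
    have e : ∀ p q : Equiv.Perm (V 2 4), ⁅cj p, cj q⁆ = cj ⁅p, q⁆ := fun p q => by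
      simp only [cj, commutatorElement_def]; group
    rw [e, e, e] at this
    simp only [cj] at this
    have h' := congrArg (fun t => g.1 * t * g.1⁻¹) this
    simpa [mul_assoc] using h'

end CfsgLib.OrbitStab.PrimSets
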