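import Cfsg.Agent.Lib.FgsC.OrbitStab.PrimSubsets.Affine

/-!
# Five inequivalent subsets in the space of order 64
-/

set_option autoImplicit false
set_option linter.unusedSectionVars false
set_option linter.style.haveILetI false

namespace CfsgLib.OrbitStab.PrimSets

open scoped commutatorElement

theorem good_sixtyfour {P : Subgroup (Equiv.Perm (V 2 6))} (h : Aff 2 6 P) : Good P := by
  classical
  haveI : Fact (Nat.Prime 2) := ⟨Nat.prime_two⟩
  have hV : Nat.card (V 2 6) = 64 := by simp [Nat.card_eq_fintype_card, ZMod.card]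
  let K : Subgroup (Equiv.Perm (V 2 6)) := (derivedSeries P 2).map P.subtype
  let τ : V 2 6 × ZMod 2 × V 2 6 → V 2 6 → V 2 6 := fun p x =>
    x + if dotProduct p.1 x = p.2.1 then 0 else p.2.2
  let E : Set (Equiv.Perm (V 2 6)) := {g | ∃ p, ∀ x, g x = τ p x}
  have hE : E.ncard ≤ 8192 := by
    rw [← Nat.card_coe_set_eq]
    refine (Nat.card_le_card_of_injective (fun g : E => g.2.choose) fun a b e => ?_).trans ?_
    · refine Subtype.ext (Equiv.ext fun x => ?_)
      rw [a.2.choose_spec x, b.2.choose_spec x, show a.2.choose = b.2.choose from e]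
    · rw [Nat.card_prod, Nat.card_prod, hV, Nat.card_zmod]
  have hKP : Nat.card K * 2 ≤ Nat.card P := by
    haveI := h.sol
    haveI : Nontrivial P := by
      refine ⟨⟨⟨_, h.trans (fun _ => 1)⟩, 1, fun e => ?_⟩⟩
      have := congrFun (Equiv.congr_fun (congrArg Subtype.val e) 0) 0
      simp at this
    have hne : derivedSeries P 2 ≠ ⊤ := by
      intro he
      have h1 : derivedSeries P 1 = ⊤ := top_le_iff.1 (he ▸ derivedSeries_antitone P (by norm_num : 1 ≤ 2))
      have hall : ∀ n, derivedSeries P n = ⊤ := by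
        intro n
        induction n with
        | zero => rfl
        | succ n ih =>
          rw [derivedSeries_succ, ih, ← derivedSeries_zero P, ← derivedSeries_succ]
          exact h1
      obtain ⟨n, hn⟩ := (Group.isSolvable_def P).1 h.sol
      exact (bot_ne_top : (⊥ : Subgroup P) ≠ ⊤) (hn.symm.trans (hall n))
    have hc : Nat.card K = Nat.card (derivedSeries P 2) :=
      Subgroup.card_map_of_injective P.subtype_injective
    rw [hc, ← (derivedSeries P 2).card_mul_index]
    refine Nat.mul_le_mul_left _ ?_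
    by_contra hlt
    exact hne (Subgroup.index_eq_one.1 (by
      have := Nat.pos_of_ne_zero (Subgroup.index_ne_zero_of_finite (H := derivedSeries P 2))
      omega))
  refine good_of_count P K (fun a ha b hb c hc d hd => ?_) 40 48 E (fun g hg hg1 => ?_) ?_
  · refine ⟨⁅⁅(⟨a, ha⟩ : P), (⟨b, hb⟩ : P)⁆, ⁅(⟨c, hc⟩ : P), (⟨d, hd⟩ : P)⁆⁆, ?_, ?_⟩
    · rw [derivedSeries_succ, derivedSeries_one]
      exact Subgroup.commutator_mem_commutator
        (Subgroup.commutator_mem_commutator (Subgroup.mem_top _) (Subgroup.mem_top _))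
        (Subgroup.commutator_mem_commutator (Subgroup.mem_top _) (Subgroup.mem_top _))
    · simp [commutatorElement_def]
  · have hgP : g ∈ P := by
      obtain ⟨y, -, rfl⟩ := hg
      exact y.2
    obtain ⟨hf, hf'⟩ := fix_bound h hgP hg1
    have hc := two_cyc_le g
    rw [hV] at hc
    rw [show (2 : ℕ) ^ 6 = 64 from rfl] at hf hf'
    rcases hf' with h4 | ⟨U, hU, x0, hx0⟩
    · left; omega
    refine Or.inr ⟨?_, by omega⟩
    -- the functional
    let φ : V 2 6 →+ ZMod 2 :=
      AddMonoidHom.mk' (fun x => if x ∈ U then 0 else 1) fun a b => by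
        have := AddSubgroup.add_mem_iff_of_index_two hU (a := a) (b := b)
        by_cases ha : a ∈ U <;> by_cases hb : b ∈ U <;> simp_all <;> rfl
    let c : V 2 6 := fun i => φ (Pi.single i 1)
    have hφ : ∀ x, dotProduct c x = φ x := by
      intro x
      have hx : x = ∑ i, x i • (Pi.single i 1 : V 2 6) := by funext j; simp [Finset.sum_apply, Pi.single_apply]
      conv_rhs => rw [hx, map_sum]
      refine Finset.sum_congr rfl fun i _ => ?_
      rw [ZMod.map_smul, smul_eq_mul, mul_comm]
    have hmem : ∀ x, x ∈ U ↔ φ x = 0 := fun x => by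
      show _ ↔ (if x ∈ U then (0 : ZMod 2) else 1) = 0
      split_ifs with hx <;> simp [hx]
    obtain ⟨p, hp⟩ : ∃ p, p ∉ U := by
      by_contra! hall
      rw [AddSubgroup.index_eq_one.2 ((AddSubgroup.eq_top_iff' U).2 hall)] at hU
      norm_num at hU
    refine ⟨(c, φ x0, g (x0 + p) - (x0 + p)), fun x => ?_⟩
    show g x = x + if dotProduct c x = φ x0 then 0 else g (x0 + p) - (x0 + p)
    rw [hφ]
    by_cases hx : φ x = φ x0
    · rw [if_pos hx, add_zero]
      have hmem' : x - x0 ∈ U := (hmem _).2 (by rw [map_sub, hx, sub_self])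
      have := hx0 _ hmem'
      rwa [add_sub_cancel] at this
    · rw [if_neg hx]
      have hnot : x - x0 ∉ U := fun hu => hx (sub_eq_zero.1 ((map_sub φ x x0).symm.trans ((hmem _).1 hu)))
      have hu : x - x0 - p ∈ U := by
        rw [sub_eq_add_neg, AddSubgroup.add_mem_iff_of_index_two hU, neg_mem_iff]
        exact iff_of_false hnot hp
      have a1 := hx0 _ hu
      have a2 := h.add g hgP (x0 + p) (x - x0 - p)
      have a3 := h.add g hgP x0 (x - x0 - p)
      have g0 : g x0 = x0 := by simpa using hx0 0 U.zero_mem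
      rw [show x0 + p + (x - x0 - p) = x by abel] at a2
      rw [a1, g0, add_assoc] at a3
      have a4 : g (x - x0 - p) = x - x0 - p + g 0 := (add_left_cancel a3).symm
      rw [a4, ← add_assoc] at a2
      rw [add_right_cancel a2]
      abel
  · rw [hV]
    have hP : Nat.card P ≤ 16777216 := (card_le h).trans (by norm_num)
    calc Nat.card K * 2 ^ 40 + E.ncard * 2 ^ 48 + 4 * Nat.card P
        ≤ 8388608 * 2 ^ 40 + 8192 * 2 ^ 48 + 4 * 16777216 := by
          gcongr
          omega
      _ < 2 ^ 64 := by norm_num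

end CfsgLib.OrbitStab.PrimSets
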