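import Cfsg.Agent.Lib.FgsC.OrbitStab.PrimSubsets.Basic

/-!
# Five inequivalent subsets: affine maps, the order of the group and the large cases
-/

set_option autoImplicit false
set_option linter.unusedSectionVars false
set_option linter.style.haveILetI false

namespace CfsgLib.OrbitStab.PrimSets

open scoped commutatorElement
open CfsgLib.BaseTwo CfsgLib.BaseThree

variable {r k : ℕ} {P : Subgroup (Equiv.Perm (V r k))}

theorem Aff.map_add (h : Aff r k P) {g : Equiv.Perm (V r k)} (hg : g ∈ P) (x y : V r k) :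
    g (x + y) - g 0 = (g x - g 0) + (g y - g 0) := by
  have := h.add g hg x y
  calc g (x + y) - g 0 = (g (x + y) + g 0) - g 0 - g 0 := by abel
    _ = _ := by rw [this]; abel

/-- the linear part of an element -/
def Aff.lp (h : Aff r k P) {g : Equiv.Perm (V r k)} (hg : g ∈ P) : V r k →+ V r k :=
  AddMonoidHom.mk' (fun x => g x - g 0) (h.map_add hg)

theorem Aff.map_add_zero (h : Aff r k P) {g : Equiv.Perm (V r k)} (hg : g ∈ P) (h0 : g 0 = 0)
    (x y : V r k) : g (x + y) = g x + g y := by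
  have := h.map_add hg x y
  simpa [h0] using this

/-- the stabiliser of the origin -/
def stab0 (P : Subgroup (Equiv.Perm (V r k))) : Subgroup (Equiv.Perm (V r k)) where
  carrier := {g | g ∈ P ∧ g 0 = 0}
  one_mem' := ⟨P.one_mem, rfl⟩
  mul_mem' {a b} ha hb := ⟨P.mul_mem ha.1 hb.1, by rw [Equiv.Perm.mul_apply, hb.2, ha.2]⟩
  inv_mem' {a} ha := ⟨P.inv_mem ha.1, by
    rw [Equiv.Perm.coe_inv, Equiv.symm_apply_eq, ha.2]⟩

theorem stab0_le : stab0 P ≤ P := fun _ h => h.1

/-- the origin stabiliser acts linearly -/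
@[reducible] def linAction (h : Aff r k P) : DistribMulAction (stab0 P) (V r k) where
  smul g v := g.1 v
  one_smul _ := rfl
  mul_smul _ _ _ := rfl
  smul_zero g := g.2.2
  smul_add g x y := h.map_add_zero g.2.1 g.2.2 x y

theorem card_eq [NeZero r] (h : Aff r k P) :
    Nat.card P = r ^ k * Nat.card (stab0 P) := by
  have e : P ≃ V r k × stab0 P :=
    { toFun := fun g => (g.1 0, ⟨Equiv.addRight (-g.1 0) * g.1,
        P.mul_mem (h.trans _) g.2, by simp⟩)
      invFun := fun p => ⟨Equiv.addRight p.1 * p.2.1, P.mul_mem (h.trans _) p.2.2.1⟩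
      left_inv := fun g => Subtype.ext (Equiv.ext fun x => by simp)
      right_inv := fun p => by
        obtain ⟨t, g, hg, hg0⟩ := p
        refine Prod.ext (by simp [hg0]) (Subtype.ext (Equiv.ext fun x => ?_))
        simp [hg0] }
  rw [Nat.card_congr e, Nat.card_prod, Nat.card_fun, Nat.card_zmod, Nat.card_eq_fintype_card (α := Fin k),
    Fintype.card_fin]

theorem Aff.sol0 (h : Aff r k P) : Group.IsSolvable (stab0 P) := by
  haveI := h.sol
  exact Group.isSolvable_of_isSolvable_injective (Subgroup.inclusion_injective stab0_le)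

theorem card_stab0_le [NeZero r] (h : Aff r k P) :
    Nat.card (stab0 P) ≤ (r ^ k) ^ 3 := by
  letI := linAction h
  haveI := h.sol0
  have hss : Semisimple (stab0 P) (V r k) := fun U hU => by
    rcases h.irred U (fun g hg h0 u hu => hU ⟨g, hg, h0⟩ u hu) with rfl | rfl
    · exact ⟨⊤, fun _ _ _ => trivial, bot_inf_eq _, bot_sup_eq _⟩
    · exact ⟨⊥, fun a w hw => by
        rw [AddSubgroup.mem_bot] at hw ⊢
        rw [hw, smul_zero], inf_bot_eq _, sup_bot_eq _⟩
  obtain ⟨v, hv⟩ := exists_tri h.sol0 hss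
  refine (Nat.card_le_card_of_injective (fun g : stab0 P => fun i => g • v i) ?_).trans ?_
  · intro a b hab
    have hfix := hv (b⁻¹ * a) fun i => by
      rw [mul_smul, show a • v i = b • v i from congrFun hab i, inv_smul_smul]
    refine Subtype.ext (Equiv.ext fun x => ?_)
    have := hfix x
    rw [mul_smul, inv_smul_eq_iff] at this
    exact this
  · rw [Nat.card_fun, Nat.card_fun, Nat.card_zmod, Nat.card_eq_fintype_card (α := Fin 3),
      Fintype.card_fin, Nat.card_eq_fintype_card (α := Fin k), Fintype.card_fin]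

theorem card_le [NeZero r] (h : Aff r k P) : Nat.card P ≤ (r ^ k) ^ 4 := by
  rw [card_eq h]
  calc r ^ k * Nat.card (stab0 P) ≤ r ^ k * (r ^ k) ^ 3 := Nat.mul_le_mul_left _ (card_stab0_le h)
    _ = _ := by ring

/-- the fixed points of a non-trivial element -/
theorem fix_bound [hr : Fact r.Prime] (h : Aff r k P) {g : Equiv.Perm (V r k)} (hg : g ∈ P)
    (hg1 : g ≠ 1) :
    Nat.card {x // g x = x} * r ≤ r ^ k ∧
      (Nat.card {x // g x = x} * r ^ 2 ≤ r ^ k ∨
        ∃ U : AddSubgroup (V r k), U.index = r ∧ ∃ x0, ∀ u ∈ U, g (x0 + u) = x0 + u) := by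
  rcases isEmpty_or_nonempty {x // g x = x} with he | ⟨⟨x0, hx0⟩⟩
  · rw [Nat.card_of_isEmpty, zero_mul, zero_mul]
    exact ⟨Nat.zero_le _, Or.inl (Nat.zero_le _)⟩
  let U : AddSubgroup (V r k) := (h.lp hg - AddMonoidHom.id _).ker
  have hU : ∀ u, u ∈ U ↔ g u - g 0 = u := fun u => sub_eq_zero
  have hfix : ∀ u, g (x0 + u) = x0 + u ↔ u ∈ U := by
    intro u
    rw [hU]
    have h1 := h.add g hg x0 u
    rw [hx0] at h1
    constructor <;> intro h2
    · rw [h2, add_assoc] at h1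
      have h3 := add_left_cancel h1
      calc g u - g 0 = (u + g 0) - g 0 := by rw [h3]
        _ = u := by abel
    · calc g (x0 + u) = (g (x0 + u) + g 0) - g 0 := by abel
        _ = x0 + (g u - g 0) := by rw [h1]; abel
        _ = x0 + u := by rw [h2]
  have hcard : Nat.card {x // g x = x} = Nat.card U := Nat.card_congr
    { toFun := fun x => ⟨x.1 - x0, (hfix _).1 (by rw [add_sub_cancel]; exact x.2)⟩
      invFun := fun u => ⟨x0 + u.1, (hfix _).2 u.2⟩
      left_inv := fun x => Subtype.ext (add_sub_cancel _ _)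
      right_inv := fun u => Subtype.ext (by simp) }
  have hV : Nat.card (V r k) = r ^ k := by simp [Nat.card_eq_fintype_card, ZMod.card]
  have hne : U.index ≠ 1 := by
    intro h1
    rw [AddSubgroup.index_eq_one] at h1
    apply hg1
    ext1 x
    have := (hfix (x - x0)).2 (h1 ▸ trivial)
    rwa [add_sub_cancel] at this
  have hmul := U.index_mul_card
  rw [hV] at hmul
  obtain ⟨j, -, hj⟩ := (Nat.dvd_prime_pow hr.out).1 (Dvd.intro _ hmul)
  have hj0 : j ≠ 0 := fun h0 => hne (by rw [hj, h0, pow_zero])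
  rw [hcard]
  rcases Nat.lt_or_ge j 2 with hj2 | hj2
  · obtain rfl : j = 1 := by omega
    rw [pow_one] at hj
    refine ⟨le_of_eq (by rw [mul_comm, ← hmul, hj]), Or.inr ⟨U, hj, x0, fun u hu => (hfix u).2 hu⟩⟩
  · have hle : r ^ 2 ≤ U.index := hj ▸ Nat.pow_le_pow_right hr.out.pos hj2
    refine ⟨?_, Or.inl ?_⟩
    · calc Nat.card U * r ≤ Nat.card U * U.index :=
            Nat.mul_le_mul_left _ ((Nat.le_self_pow two_ne_zero r).trans hle)
        _ = r ^ k := by rw [mul_comm, hmul]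
    · calc Nat.card U * r ^ 2 ≤ Nat.card U * U.index := Nat.mul_le_mul_left _ hle
        _ = r ^ k := by rw [mul_comm, hmul]

theorem comm2_mem {a b c d : Equiv.Perm (V r k)} (ha : a ∈ P) (hb : b ∈ P) (hc : c ∈ P) (hd : d ∈ P) :
    ⁅⁅a, b⁆, ⁅c, d⁆⁆ ∈ P := by
  simp only [commutatorElement_def]
  exact P.mul_mem (P.mul_mem (P.mul_mem (P.mul_mem (P.mul_mem (P.mul_mem ha hb) (P.inv_mem ha)) (P.inv_mem hb))
    (P.mul_mem (P.mul_mem (P.mul_mem hc hd) (P.inv_mem hc)) (P.inv_mem hd)))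
    (P.inv_mem (P.mul_mem (P.mul_mem (P.mul_mem ha hb) (P.inv_mem ha)) (P.inv_mem hb))))
    (P.inv_mem (P.mul_mem (P.mul_mem (P.mul_mem hc hd) (P.inv_mem hc)) (P.inv_mem hd)))

theorem bound_three : ∀ j, 27 ≤ j → 2 * (3 * j) ^ 4 < 2 ^ j := by
  intro j hj
  induction j, hj using Nat.le_induction with
  | base => norm_num
  | succ j hj ih =>
    have e : (j + 1) ^ 4 ≤ 2 * j ^ 4 := by
      have h2 : 4 * j ^ 3 + 6 * j ^ 2 + 4 * j + 1 ≤ 15 * j ^ 3 := by nlinarith
      have h3 : 15 * j ^ 3 ≤ j * j ^ 3 := Nat.mul_le_mul_right _ (by omega)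
      nlinarith
    calc 2 * (3 * (j + 1)) ^ 4 = 162 * (j + 1) ^ 4 := by ring
      _ ≤ 162 * (2 * j ^ 4) := Nat.mul_le_mul_left _ e
      _ = 2 * (2 * (3 * j) ^ 4) := by ring
      _ < 2 * 2 ^ j := by omega
      _ = 2 ^ (j + 1) := by ring

theorem bound_four : ∀ j, 32 ≤ j → 2 * (4 * j) ^ 4 < 2 ^ j := by
  intro j hj
  induction j, hj using Nat.le_induction with
  | base => norm_num
  | succ j hj ih =>
    have e : (j + 1) ^ 4 ≤ 2 * j ^ 4 := by
      have h2 : 4 * j ^ 3 + 6 * j ^ 2 + 4 * j + 1 ≤ 15 * j ^ 3 := by nlinarith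
      have h3 : 15 * j ^ 3 ≤ j * j ^ 3 := Nat.mul_le_mul_right _ (by omega)
      nlinarith
    calc 2 * (4 * (j + 1)) ^ 4 = 512 * (j + 1) ^ 4 := by ring
      _ ≤ 512 * (2 * j ^ 4) := Nat.mul_le_mul_left _ e
      _ = 2 * (2 * (4 * j) ^ 4) := by ring
      _ < 2 * 2 ^ j := by omega
      _ = 2 ^ (j + 1) := by ring

/-- the large cases -/
theorem good_large [hr : Fact r.Prime] (h : Aff r k P) (h3 : r = 2 → 128 ≤ r ^ k)
    (h81 : r ≠ 2 → 81 ≤ r ^ k) : Good P := by
  have hr2 := hr.out.two_le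
  set m := r ^ k with hm
  have hV : Nat.card (V r k) = m := by simp [hm, Nat.card_eq_fintype_card, ZMod.card]
  have key : ∃ c, 8 ≤ 2 ^ c ∧ 2 * m ^ 4 * 2 ^ c < 2 ^ m ∧ ∀ g ∈ P, g ≠ 1 → cyc g ≤ c := by
    have hcyc : ∀ g ∈ P, g ≠ 1 → 2 * r * cyc g ≤ r * m + m := by
      intro g hg hg1
      have h1 := two_cyc_le g
      rw [hV] at h1
      have h2 : Nat.card {x // g x = x} * r ≤ m := (fix_bound h hg hg1).1
      calc 2 * r * cyc g = r * (2 * cyc g) := by ring
        _ ≤ r * (m + Nat.card {x // g x = x}) := Nat.mul_le_mul_left _ h1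
        _ ≤ r * m + m := by rw [mul_add, mul_comm r (Nat.card _)]; omega
    by_cases h2 : r = 2
    · subst h2
      have hj : 32 ≤ (m + 3) / 4 := by have := h3 rfl; omega
      refine ⟨3 * m / 4, ?_, ?_, fun g hg hg1 => ?_⟩
      · exact (show 8 = 2 ^ 3 by norm_num) ▸ Nat.pow_le_pow_right (by norm_num) (by have := h3 rfl; omega)
      · have hb := bound_four _ hj
        have hle : m ^ 4 ≤ (4 * ((m + 3) / 4)) ^ 4 := Nat.pow_le_pow_left (by omega) 4
        calc 2 * m ^ 4 * 2 ^ (3 * m / 4) < 2 ^ ((m + 3) / 4) * 2 ^ (3 * m / 4) :=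
              Nat.mul_lt_mul_of_pos_right (lt_of_le_of_lt (by omega) hb) (Nat.pow_pos (by norm_num))
          _ ≤ 2 ^ m := by rw [← pow_add]; exact Nat.pow_le_pow_right (by norm_num) (by omega)
      · have := hcyc g hg hg1
        omega
    · have hr3 : 3 ≤ r := by omega
      have hj : 27 ≤ (m + 2) / 3 := by have := h81 h2; omega
      refine ⟨2 * m / 3, ?_, ?_, fun g hg hg1 => ?_⟩
      · exact (show 8 = 2 ^ 3 by norm_num) ▸ Nat.pow_le_pow_right (by norm_num) (by have := h81 h2; omega)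
      · have hb := bound_three _ hj
        have hle : m ^ 4 ≤ (3 * ((m + 2) / 3)) ^ 4 := Nat.pow_le_pow_left (by omega) 4
        calc 2 * m ^ 4 * 2 ^ (2 * m / 3) < 2 ^ ((m + 2) / 3) * 2 ^ (2 * m / 3) :=
              Nat.mul_lt_mul_of_pos_right (lt_of_le_of_lt (by omega) hb) (Nat.pow_pos (by norm_num))
          _ ≤ 2 ^ m := by rw [← pow_add]; exact Nat.pow_le_pow_right (by norm_num) (by omega)
      · have h1 := hcyc g hg hg1
        have h2 : r * m + m ≤ r * m + r * m / 3 := by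
          have : 3 * m ≤ r * m := Nat.mul_le_mul_right _ hr3
          omega
        have h4 : 3 * (2 * r * cyc g) ≤ 4 * (r * m) := by omega
        have h5 : r * (6 * cyc g) ≤ r * (4 * m) :=
          le_of_eq_of_le (by ring) (le_of_le_of_eq h4 (by ring))
        have := Nat.le_of_mul_le_mul_left h5 hr.out.pos
        omega
  obtain ⟨c, hc8, hc, hcy⟩ := key
  refine good_of_count P P (fun a ha b hb c hc d hd => comm2_mem ha hb hc hd) c 0 ∅
    (fun g hg hg1 => Or.inl (hcy g hg hg1)) ?_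
  rw [hV, Set.ncard_empty, zero_mul, add_zero]
  have hP : Nat.card P ≤ m ^ 4 := card_le h
  calc Nat.card P * 2 ^ c + 4 * Nat.card P = Nat.card P * (2 ^ c + 4) := by ring
    _ ≤ m ^ 4 * (2 ^ c + 2 ^ c) := Nat.mul_le_mul hP (by omega)
    _ = 2 * m ^ 4 * 2 ^ c := by ring
    _ < _ := hc

end CfsgLib.OrbitStab.PrimSets
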