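import Cfsg.Agent.Lib.FgsC.BaseThree.Main

/-!
# Five inequivalent subsets for affine soluble groups: definitions and counting

A set whose stabiliser has derived length at most two is found by certificates in the small cases and
by counting the subsets moved by all elements of the second derived group in the large ones.
-/

set_option autoImplicit false
set_option linter.unusedSectionVars false
set_option linter.style.haveILetI false

namespace CfsgLib.OrbitStab.PrimSets

open scoped commutatorElement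

/-- the point set of the affine space -/
abbrev V (r k : ℕ) : Type := Fin k → ZMod r

/-- A soluble group of affine maps with all translations and irreducible linear part. -/
structure Aff (r k : ℕ) (P : Subgroup (Equiv.Perm (V r k))) : Prop where
  sol : Group.IsSolvable P
  add : ∀ g ∈ P, ∀ x y, g (x + y) + g 0 = g x + g y
  trans : ∀ t, Equiv.addRight t ∈ P
  irred : ∀ U : AddSubgroup (V r k), (∀ g ∈ P, g 0 = 0 → ∀ u ∈ U, g u ∈ U) → U = ⊥ ∨ U = ⊤

section defs

variable {α : Type*}

/-- membership in the setwise stabiliser -/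
def Keeps (S : Set α) (g : Equiv.Perm α) : Prop := ∀ x, g x ∈ S ↔ x ∈ S

/-- The stabiliser of the set has derived length at most two. -/
def Meta (P : Subgroup (Equiv.Perm α)) (S : Set α) : Prop :=
  ∀ a ∈ P, ∀ b ∈ P, ∀ c ∈ P, ∀ d ∈ P, Keeps S a → Keeps S b → Keeps S c → Keeps S d →
    ⁅⁅a, b⁆, ⁅c, d⁆⁆ = 1

/-- Five inequivalent sets with metabelian stabilisers. -/
def Good (P : Subgroup (Equiv.Perm α)) : Prop :=
  ∃ T : Fin 5 → Set α, (∀ (i j : Fin 5), ∀ g ∈ P, (∀ x, g x ∈ T j ↔ x ∈ T i) → i = j) ∧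
    ∀ i, Meta P (T i)

theorem keeps_compl {S : Set α} {g : Equiv.Perm α} : Keeps Sᶜ g ↔ Keeps S g := by
  simp only [Keeps, Set.mem_compl_iff, not_iff_not]

theorem Meta.compl {P : Subgroup (Equiv.Perm α)} {S : Set α} (h : Meta P S) : Meta P Sᶜ :=
  fun a ha b hb c hc d hd h1 h2 h3 h4 => h a ha b hb c hc d hd (keeps_compl.1 h1) (keeps_compl.1 h2)
    (keeps_compl.1 h3) (keeps_compl.1 h4)

theorem ncard_preimage (S : Set α) (g : Equiv.Perm α) : (g ⁻¹' S).ncard = S.ncard := by
  rw [← Equiv.image_symm_eq_preimage]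
  exact Set.ncard_image_of_injective S g.symm.injective

/-- sets of different sizes are inequivalent -/
theorem good_of_sizes (P : Subgroup (Equiv.Perm α)) (T : Fin 5 → Set α)
    (hT : Function.Injective fun i => (T i).ncard) (hm : ∀ i, Meta P (T i)) : Good P := by
  refine ⟨T, fun i j g _ hg => hT ?_, hm⟩
  have : T i = g ⁻¹' T j := Set.ext fun x => (hg x).symm
  show (T i).ncard = (T j).ncard
  rw [this, ncard_preimage]

/-- many sets give five inequivalent ones -/
theorem good_of_many [Finite α] (P : Subgroup (Equiv.Perm α)) (U : Set (Set α))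
    (hU : 4 * Nat.card P < U.ncard) (hm : ∀ S ∈ U, Meta P S) : Good P := by
  classical
  -- the sets equivalent to a given one
  let cls : Set α → Set (Set α) := fun S => (fun g : P => (g : Equiv.Perm α) ⁻¹' S) '' Set.univ
  have hcls : ∀ S, (cls S).ncard ≤ Nat.card P := fun S => by
    refine (Set.ncard_image_le (Set.toFinite _)).trans ?_
    rw [Set.ncard_univ]
  have key : ∀ n ≤ 5, ∃ T : Fin n → Set α, (∀ i, T i ∈ U) ∧ ∀ i j, T i ∈ cls (T j) → j ≤ i → i = j := by
    intro n hn
    induction n with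
    | zero => exact ⟨fun i => i.elim0, fun i => i.elim0, fun i => i.elim0⟩
    | succ n ih =>
      obtain ⟨T, hT1, hT2⟩ := ih (by omega)
      obtain ⟨S, hS, hSn⟩ : ∃ S ∈ U, ∀ i, S ∉ cls (T i) := by
        by_contra! hall
        have hsub : U ⊆ ⋃ i, cls (T i) := fun S hS => Set.mem_iUnion.2 (hall S hS)
        have h1 := Set.ncard_le_ncard hsub (Set.toFinite _)
        have h2 : (⋃ i, cls (T i)).ncard ≤ n * Nat.card P := by
          refine (Set.ncard_iUnion_le_of_fintype _).trans ?_
          refine (Finset.sum_le_card_nsmul _ _ (Nat.card P) fun i _ => hcls (T i)).trans ?_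
          simp
        have : n * Nat.card P ≤ 4 * Nat.card P := Nat.mul_le_mul_right _ (by omega)
        omega
      refine ⟨Fin.snoc T S, fun i => ?_, fun i j => ?_⟩
      · induction i using Fin.lastCases with
        | last => simpa using hS
        | cast i => simpa using hT1 i
      · induction i using Fin.lastCases with
        | last =>
          induction j using Fin.lastCases with
          | last => simp
          | cast j => intro h _; exact absurd (by simpa using h) (hSn j)
        | cast i =>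
          induction j using Fin.lastCases with
          | last => intro _ h; exact absurd h (not_le.2 (Fin.castSucc_lt_last i))
          | cast j =>
            intro h hle
            rw [hT2 i j (by simpa using h) (by simpa using hle)]
  obtain ⟨T, hT1, hT2⟩ := key 5 le_rfl
  refine ⟨T, fun i j g hg hij => ?_, fun i => hm _ (hT1 i)⟩
  have e : T i = g ⁻¹' T j := Set.ext fun x => (hij x).symm
  rcases le_total j i with hle | hle
  · exact hT2 i j ⟨⟨g, hg⟩, trivial, e.symm⟩ hle
  · refine (hT2 j i ⟨⟨g⁻¹, P.inv_mem hg⟩, trivial, ?_⟩ hle).symm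
    show ((g⁻¹ : Equiv.Perm α) : α → α) ⁻¹' T i = T j
    ext x
    rw [Set.mem_preimage, ← hij, Equiv.Perm.coe_inv, Equiv.apply_symm_apply]

end defs

section orbits

variable {α : Type*} [Finite α]

/-- the number of orbits of a permutation -/
noncomputable def cyc (g : Equiv.Perm α) : ℕ :=
  Nat.card (MulAction.orbitRel.Quotient (Subgroup.zpowers g) α)

theorem two_cyc_le (g : Equiv.Perm α) : 2 * cyc g ≤ Nat.card α + Nat.card {x : α // g x = x} := by
  classical
  haveI := Fintype.ofFinite α
  let H := Subgroup.zpowers g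
  let Q := MulAction.orbitRel.Quotient H α
  haveI := Fintype.ofFinite Q
  let π : α → Q := Quotient.mk''
  have hπ : Function.Surjective π := Quotient.mk''_surjective
  let fib : Q → ℕ := fun q => (Finset.univ.filter fun x => π x = q).card
  have hsum : Nat.card α = ∑ q : Q, fib q := by
    rw [Nat.card_eq_fintype_card, ← Finset.card_univ]
    exact Finset.card_eq_sum_card_fiberwise (t := Finset.univ) fun x _ => Finset.mem_univ (π x)
  have hpos : ∀ q, 1 ≤ fib q := fun q => by
    obtain ⟨x, hx⟩ := hπ q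
    exact Finset.card_pos.2 ⟨x, by simp [hx]⟩
  have hfix : Nat.card {q : Q // fib q = 1} ≤ Nat.card {x : α // g x = x} := by
    refine Nat.card_le_card_of_injective
      (fun q => ⟨(Function.surjInv hπ q.1), ?_⟩) (fun a b h => ?_)
    · have h1 := q.2
      obtain ⟨y, hy⟩ := Finset.card_eq_one.1 h1
      have e1 : π (Function.surjInv hπ q.1) = q.1 := Function.surjInv_eq hπ q.1
      have e2 : π (g (Function.surjInv hπ q.1)) = q.1 := by
        rw [← e1]
        exact Quotient.sound' ⟨⟨g, Subgroup.mem_zpowers g⟩, by rw [e1]; rfl⟩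
      have m1 : Function.surjInv hπ q.1 ∈ ({y} : Finset α) := hy ▸ (by simp [e1])
      have m2 : g (Function.surjInv hπ q.1) ∈ ({y} : Finset α) := hy ▸ (by simp [e2])
      rw [Finset.mem_singleton] at m1 m2
      rw [m1] at m2 ⊢
      exact m2
    · have h' := congrArg (fun x => π x.1) h
      simp only [Function.surjInv_eq hπ] at h'
      exact Subtype.ext h'
  have h3 : 2 * Fintype.card Q ≤ ∑ q : Q, fib q + Nat.card {q : Q // fib q = 1} := by
    rw [Nat.card_eq_fintype_card, Fintype.card_subtype, Finset.card_filter,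
      ← Finset.sum_add_distrib, ← Finset.card_univ, mul_comm, ← smul_eq_mul, ← Finset.sum_const]
    refine Finset.sum_le_sum fun q _ => ?_
    have := hpos q
    split_ifs <;> omega
  have hc : cyc g = Fintype.card Q := Nat.card_eq_fintype_card
  omega

theorem card_kept_le (g : Equiv.Perm α) : Nat.card {S : Set α // Keeps S g} ≤ 2 ^ cyc g := by
  classical
  let Q := MulAction.orbitRel.Quotient (Subgroup.zpowers g) α
  haveI := Fintype.ofFinite Q
  have hinv : ∀ S : Set α, Keeps S g → ∀ x y : α,
      (Quotient.mk'' x : Q) = Quotient.mk'' y → (x ∈ S ↔ y ∈ S) := by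
    intro S hS x y hxy
    obtain ⟨⟨h, hh⟩, rfl⟩ := Quotient.exact' hxy
    show h y ∈ S ↔ y ∈ S
    obtain ⟨n, rfl⟩ := Subgroup.mem_zpowers_iff.1 hh
    induction n using Int.induction_on with
    | zero => simp
    | succ i ih =>
      rw [add_comm, zpow_add, zpow_one, Equiv.Perm.mul_apply, hS]
      exact ih ⟨i, rfl⟩ (Quotient.sound' ⟨⟨_, i, rfl⟩, rfl⟩)
    | pred i ih =>
      rw [show (-(i : ℤ) - 1) = -1 + -(i : ℤ) by ring, zpow_add, zpow_neg_one,
        Equiv.Perm.mul_apply, ← hS, Equiv.Perm.coe_inv, Equiv.apply_symm_apply]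
      exact ih ⟨-i, rfl⟩ (Quotient.sound' ⟨⟨_, -i, rfl⟩, rfl⟩)
  refine (Nat.card_le_card_of_injective
    (fun S => fun q : Q => decide (q.out ∈ (S.1 : Set α))) ?_).trans ?_
  · intro S T h
    apply Subtype.ext
    ext x
    have h1 := congrFun h (Quotient.mk'' x)
    simp only [decide_eq_decide] at h1
    rwa [hinv S.1 S.2 _ x (Quotient.out_eq' _), hinv T.1 T.2 _ x (Quotient.out_eq' _)] at h1
  · rw [Nat.card_fun, Nat.card_eq_fintype_card (α := Bool), Fintype.card_bool]
    exact le_of_eq rfl

/-- Counting: sets moved by every non-trivial element of a subgroup containing the second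
commutators. -/
theorem good_of_count (P K : Subgroup (Equiv.Perm α))
    (hK : ∀ a ∈ P, ∀ b ∈ P, ∀ c ∈ P, ∀ d ∈ P, ⁅⁅a, b⁆, ⁅c, d⁆⁆ ∈ K)
    (c c' : ℕ) (E : Set (Equiv.Perm α))
    (hB : ∀ g ∈ K, g ≠ 1 → cyc g ≤ c ∨ g ∈ E ∧ cyc g ≤ c')
    (h : Nat.card K * 2 ^ c + E.ncard * 2 ^ c' + 4 * Nat.card P < 2 ^ Nat.card α) : Good P := by
  classical
  haveI := Fintype.ofFinite α
  let bad : Set (Set α) := ⋃ g ∈ {g : Equiv.Perm α | g ∈ K ∧ g ≠ 1}, {S | Keeps S g}
  have hsub : bad ⊆ (⋃ g ∈ Finset.univ.filter (fun g : Equiv.Perm α => g ∈ K ∧ cyc g ≤ c),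
      {S | Keeps S g}) ∪ ⋃ g ∈ Finset.univ.filter (fun g : Equiv.Perm α => g ∈ E ∧ cyc g ≤ c'),
      {S | Keeps S g} := by
    intro S hS
    simp only [bad, Set.mem_iUnion, Set.mem_union] at hS ⊢
    obtain ⟨g, ⟨hgK, hg1⟩, hgS⟩ := hS
    rcases hB g hgK hg1 with h | h
    · exact Or.inl ⟨g, by simp [hgK, h], hgS⟩
    · exact Or.inr ⟨g, by simp [h.1, h.2], hgS⟩
  have hone : ∀ (F : Finset (Equiv.Perm α)) (e n : ℕ), F.card ≤ n → (∀ g ∈ F, cyc g ≤ e) →
      (⋃ g ∈ F, {S : Set α | Keeps S g}).ncard ≤ n * 2 ^ e := by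
    intro F e n hn he
    refine (Finset.set_ncard_biUnion_le F _).trans ((Finset.sum_le_card_nsmul _ _ (2 ^ e) fun g hg => ?_).trans ?_)
    · rw [← Nat.card_coe_set_eq]
      exact (card_kept_le g).trans (Nat.pow_le_pow_right (by norm_num) (he g hg))
    · rw [smul_eq_mul]
      exact Nat.mul_le_mul_right _ hn
  have hbad : bad.ncard ≤ Nat.card K * 2 ^ c + E.ncard * 2 ^ c' := by
    refine ((Set.ncard_le_ncard hsub (Set.toFinite _)).trans (Set.ncard_union_le _ _)).trans
      (Nat.add_le_add (hone _ c _ ?_ fun g hg => (Finset.mem_filter.1 hg).2.2)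
        (hone _ c' _ ?_ fun g hg => (Finset.mem_filter.1 hg).2.2))
    · rw [← Set.ncard_coe_finset, ← SetLike.coe_sort_coe K, Nat.card_coe_set_eq]
      exact Set.ncard_le_ncard (fun g hg => (Finset.mem_filter.1 hg).2.1) (Set.toFinite _)
    · rw [← Set.ncard_coe_finset]
      exact Set.ncard_le_ncard (fun g hg => (Finset.mem_filter.1 hg).2.1) (Set.toFinite _)
  refine good_of_many P badᶜ ?_ ?_
  · have h1 := Set.ncard_add_ncard_compl bad
    have h2 : Nat.card (Set α) = 2 ^ Nat.card α := by
      rw [Nat.card_eq_fintype_card, Fintype.card_set, Nat.card_eq_fintype_card]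
    omega
  · intro S hS a ha b hb c hc d hd h1 h2 h3 h4
    by_contra hne
    apply hS
    simp only [bad, Set.mem_iUnion]
    refine ⟨⁅⁅a, b⁆, ⁅c, d⁆⁆, ⟨hK a ha b hb c hc d hd, hne⟩, ?_⟩
    let St : Subgroup (Equiv.Perm α) :=
      { carrier := {g | Keeps S g}
        one_mem' := fun x => Iff.rfl
        mul_mem' := fun {g k} hg hk x => (hg (k x)).trans (hk x)
        inv_mem' := fun {g} hg x => by
          rw [← hg (g⁻¹ x), Equiv.Perm.coe_inv, Equiv.apply_symm_apply] }
    have hc2 : ∀ {p q : Equiv.Perm α}, p ∈ St → q ∈ St → ⁅p, q⁆ ∈ St := fun {p q} hp hq => by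
      rw [commutatorElement_def]
      exact St.mul_mem (St.mul_mem (St.mul_mem hp hq) (St.inv_mem hp)) (St.inv_mem hq)
    exact hc2 (hc2 (p := a) (q := b) h1 h2) (hc2 (p := c) (q := d) h3 h4)

end orbits

end CfsgLib.OrbitStab.PrimSets
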