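import Cfsg.Agent.Lib.FgsC.OrbitStab.Defs
import Cfsg.Agent.Lib.FgsC.OrbitStab.PrimSubsets.Affine

/-!
# Five inequivalent subsets: from primitive soluble groups to affine groups
-/

set_option autoImplicit false
set_option linter.unusedSectionVars false
set_option linter.style.haveILetI false

universe u

namespace CfsgLib.OrbitStab.PrimSets

open scoped commutatorElement
open MulAction

/-- a metabelian stabiliser has trivial second derived group -/
theorem triv_of_meta {G : Type u} [Group G] {X : Type u} [MulAction G X] {S : Set X}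
    (h : Meta (toPermHom G X).range S) : CfsgLib.OrbitStab.Triv (setStab G S) 2 X := by
  set H := setStab G S
  let φ : H →* Equiv.Perm X := (toPermHom G X).comp H.subtype
  have hkeep : ∀ a : H, Keeps S (φ a) := fun a => a.2
  have hcomm : ∀ x ∈ commutatorSet H, ∀ y ∈ commutatorSet H, Commute (φ x) (φ y) := by
    rintro _ ⟨a, b, rfl⟩ _ ⟨c, d, rfl⟩
    rw [map_commutatorElement, map_commutatorElement, ← commutatorElement_eq_one_iff_commute]
    exact h _ ⟨a.1, rfl⟩ _ ⟨b.1, rfl⟩ _ ⟨c.1, rfl⟩ _ ⟨d.1, rfl⟩ (hkeep a) (hkeep b) (hkeep c) (hkeep d)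
  have h1 : ∀ x ∈ derivedSeries H 1, ∀ y ∈ derivedSeries H 1, Commute (φ x) (φ y) := by
    intro x hx y hy
    rw [derivedSeries_one, commutator_eq_closure] at hx hy
    induction hx using Subgroup.closure_induction generalizing y hy with
    | mem x hx =>
      induction hy using Subgroup.closure_induction with
      | mem y hy => exact hcomm x hx y hy
      | one => rw [map_one]; exact Commute.one_right _
      | mul a b _ _ ha hb => rw [map_mul]; exact ha.mul_right hb
      | inv a _ ha => rw [map_inv]; exact ha.inv_right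
    | one => rw [map_one]; exact Commute.one_left _
    | mul a b _ _ ha hb => rw [map_mul]; exact (ha y hy).mul_left (hb y hy)
    | inv a _ ha => rw [map_inv]; exact (ha y hy).inv_left
  have h2 : derivedSeries H 2 ≤ φ.ker := by
    rw [derivedSeries_succ, Subgroup.commutator_le]
    intro x hx y hy
    rw [MonoidHom.mem_ker, map_commutatorElement, commutatorElement_eq_one_iff_commute]
    exact h1 x hx y hy
  intro g hg x
  obtain ⟨y, hy, rfl⟩ := hg
  exact Equiv.congr_fun (h2 hy) x

/-- transfer along a bijection of the points -/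
theorem good_congr {α β : Type*} (e : α ≃ β) (P : Subgroup (Equiv.Perm α))
    (h : Good (P.map e.permCongrHom.toMonoidHom)) : Good P := by
  obtain ⟨T, hT, hm⟩ := h
  let Φ := e.permCongrHom
  have hΦ : ∀ g x, Φ g (e x) = e (g x) := fun g x => by
    show e (g (e.symm (e x))) = _
    rw [Equiv.symm_apply_apply]
  refine ⟨fun i => e ⁻¹' T i, fun i j g hg hij => hT i j (Φ g) ⟨g, hg, rfl⟩ fun y => ?_,
    fun i a ha b hb c hc d hd h1 h2 h3 h4 => ?_⟩
  · obtain ⟨x, rfl⟩ := e.surjective y
    rw [hΦ]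
    exact hij x
  · have hk : ∀ g, Keeps (e ⁻¹' T i) g → Keeps (T i) (Φ g) := fun g hg y => by
      obtain ⟨x, rfl⟩ := e.surjective y
      rw [hΦ]
      exact hg x
    have := hm i _ ⟨a, ha, rfl⟩ _ ⟨b, hb, rfl⟩ _ ⟨c, hc, rfl⟩ _ ⟨d, hd, rfl⟩
      (hk a h1) (hk b h2) (hk c h3) (hk d h4)
    apply Φ.injective
    rw [map_one, map_commutatorElement, map_commutatorElement, map_commutatorElement]
    exact this

/-- a primitive soluble permutation group is affine -/
theorem exists_affine {α : Type u} [Finite α] (P : Subgroup (Equiv.Perm α))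
    [IsPretransitive P α] (hs : Group.IsSolvable P) (a : α) (hne : P ≠ ⊥)
    (hmax : IsCoatom (stabilizer P a)) :
    ∃ r k : ℕ, r.Prime ∧ Nat.card α = r ^ k ∧ ∃ e : α ≃ V r k,
      Aff r k (P.map e.permCongrHom.toMonoidHom) := by
  classical
  haveI : Nontrivial P := (Subgroup.nontrivial_iff_ne_bot P).2 hne
  obtain ⟨M, hMn, hMne, hMc, hMmin⟩ := CfsgLib.BaseTwo.exists_min_abelian hs
  set H := stabilizer P a with hH
  have hnot : ¬ M ≤ H := fun hle => hMne ((Subgroup.eq_bot_iff_forall M).2 fun m hm =>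
    FaithfulSMul.eq_of_smul_eq_smul fun x : α => by
      obtain ⟨g, rfl⟩ := exists_smul_eq P a x
      have h1 := mem_stabilizer_iff.1 (hle (hMn.conj_mem m hm g⁻¹))
      rw [inv_inv, mul_smul, mul_smul, inv_smul_eq_iff] at h1
      rw [one_smul, h1])
  have htop : H ⊔ M = ⊤ := hmax.2 _ (lt_of_le_of_ne le_sup_left fun h => hnot (h ▸ le_sup_right))
  have htr : ∀ x : α, ∃ m ∈ M, m • a = x := fun x => by
    obtain ⟨g, rfl⟩ := exists_smul_eq P a x
    have hg : g ∈ M ⊔ H := by rw [sup_comm, htop]; trivial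
    obtain ⟨m, hm, h, hh, rfl⟩ := Subgroup.mem_sup_of_normal_left.1 hg
    exact ⟨m, hm, by rw [mul_smul, mem_stabilizer_iff.1 hh]⟩
  have hfree : ∀ m ∈ M, ∀ n ∈ M, m • a = n • a → m = n := fun m hm n hn he =>
    FaithfulSMul.eq_of_smul_eq_smul fun x : α => by
      obtain ⟨k, hk, rfl⟩ := htr x
      rw [smul_smul, smul_smul, hMc m hm k hk, hMc n hn k hk, mul_smul, mul_smul, he]
  letI : CommGroup M := { M.toGroup with mul_comm := fun x y => Subtype.ext (hMc x x.2 y y.2) }
  obtain ⟨r, hr, hrM⟩ := Nat.exists_prime_and_dvd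
    (show Nat.card M ≠ 1 from fun h => hMne (Subgroup.card_eq_one.1 h))
  haveI : Fact r.Prime := ⟨hr⟩
  -- exponent
  have hexp : ∀ m : M, m ^ r = 1 := by
    let U : Subgroup P :=
      { carrier := {x | x ∈ M ∧ x ^ r = 1}
        one_mem' := ⟨M.one_mem, one_pow r⟩
        mul_mem' := fun {x y} hx hy => ⟨M.mul_mem hx.1 hy.1, by
          rw [(show Commute x y from hMc x hx.1 y hy.1).mul_pow, hx.2, hy.2, one_mul]⟩
        inv_mem' := fun {x} hx => ⟨M.inv_mem hx.1, by rw [inv_pow, hx.2, inv_one]⟩ }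
    have hUn : U.Normal := ⟨fun x hx g => ⟨hMn.conj_mem x hx.1 g, by
      rw [conj_pow, hx.2, mul_one, mul_inv_cancel]⟩⟩
    rcases hMmin U hUn (fun x hx => hx.1) with h | h
    · exfalso
      obtain ⟨x, hx⟩ := exists_prime_orderOf_dvd_card' (G := M) r hrM
      have hxU : (x : P) ∈ U := ⟨x.2, by rw [← hx, ← Subgroup.orderOf_coe, pow_orderOf_eq_one]⟩
      rw [h, Subgroup.mem_bot] at hxU
      rw [← Subgroup.orderOf_coe, hxU, orderOf_one] at hx
      exact hr.one_lt.ne hx
    · intro m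
      have : (m : P) ∈ U := h.symm ▸ m.2
      exact Subtype.ext this.2
  have hexpA : ∀ x : Additive M, r • x = 0 := fun x => hexp x.toMul
  letI : Module (ZMod r) (Additive M) := AddCommGroup.zmodModule hexpA
  haveI : Module.Finite (ZMod r) (Additive M) := Module.Finite.of_finite
  haveI : Module.Free (ZMod r) (Additive M) := Module.Free.of_divisionRing (ZMod r) _
  obtain ⟨k, ⟨b⟩⟩ : ∃ k, Nonempty (Module.Basis (Fin k) (ZMod r) (Additive M)) :=
    by
    haveI : Nontrivial (ZMod r) := inferInstance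
    exact ⟨_, ⟨(Module.Free.chooseBasis (ZMod r) (Additive M)).reindex (Fintype.equivFin _)⟩⟩
  let σ : Additive M ≃+ V r k := b.equivFun.toAddEquiv
  let emb : α ≃ Additive M := (Equiv.ofBijective (fun m : Additive M => (m.toMul : P) • a)
    ⟨fun x y h => Additive.toMul.injective (Subtype.ext (hfree _ x.toMul.2 _ y.toMul.2 h)),
      fun x => by obtain ⟨m, hm, rfl⟩ := htr x; exact ⟨Additive.ofMul ⟨m, hm⟩, rfl⟩⟩).symm
  let e : α ≃ V r k := emb.trans σ.toEquiv
  have hpt : ∀ m : M, emb ((m : P) • a) = Additive.ofMul m := fun m => by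
    rw [Equiv.apply_eq_iff_eq_symm_apply]; rfl
  have hVc : Nat.card α = r ^ k := by
    rw [Nat.card_congr e, Nat.card_fun, Nat.card_zmod, Nat.card_eq_fintype_card (α := Fin k),
      Fintype.card_fin]
  -- an element is a translation after one fixing `a`
  have hact : ∀ g : P, ∃ (m : M) (h : P), h ∈ H ∧ g = (m : P) * h := by
    intro g
    obtain ⟨m, hm, hma⟩ := htr (g • a)
    refine ⟨⟨m, hm⟩, m⁻¹ * g, ?_, (mul_inv_cancel_left m g).symm⟩
    rw [hH, mem_stabilizer_iff, mul_smul, inv_smul_eq_iff]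
    exact hma.symm
  have hlin : ∀ (h : P), h ∈ H → ∀ m : M,
      emb ((h : P) • ((m : P) • a)) = Additive.ofMul (⟨h * m * h⁻¹, hMn.conj_mem _ m.2 h⟩ : M) := by
    intro h hh m
    rw [← hpt]
    congr 1
    show h • (m : P) • a = (h * m * h⁻¹) • a
    rw [mul_smul, mul_smul, inv_smul_eq_iff.2 (mem_stabilizer_iff.1 hh).symm]
  have hmap : ∀ g : P, e.permCongrHom.toMonoidHom (g : Equiv.Perm α) ∈
      P.map e.permCongrHom.toMonoidHom := fun g => ⟨g.1, g.2, rfl⟩
  refine ⟨r, k, hr, hVc, e, ?_, ?_, ?_, ?_⟩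
  · haveI := hs
    exact Group.isSolvable_of_surjective (e.permCongrHom.toMonoidHom.subgroupMap_surjective P)
  · -- affine
    rintro _ ⟨g, hg, rfl⟩ x y
    obtain ⟨t, h, hh, hth⟩ := hact ⟨g, hg⟩
    have hform : ∀ m : M, e.permCongrHom.toMonoidHom g (σ (Additive.ofMul m)) =
        σ (Additive.ofMul t) + σ (Additive.ofMul (⟨h * m * h⁻¹, hMn.conj_mem _ m.2 h⟩ : M)) := by
      intro m
      show σ (emb (g (emb.symm (σ.symm (σ (Additive.ofMul m)))))) = _
      rw [AddEquiv.symm_apply_apply]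
      have key : g (emb.symm (Additive.ofMul m)) =
          ((t * ⟨h * m * h⁻¹, hMn.conj_mem _ m.2 h⟩ : M) : P) • a := by
        show (⟨g, hg⟩ : P) • (m : P) • a = ((t : P) * (h * m * h⁻¹)) • a
        rw [hth, mul_smul, mul_smul, mul_smul, mul_smul,
          inv_smul_eq_iff.2 (mem_stabilizer_iff.1 hh).symm]
      rw [key, hpt, ofMul_mul, map_add]
    obtain ⟨x', rfl⟩ := σ.surjective x
    obtain ⟨y', rfl⟩ := σ.surjective y
    obtain ⟨m, rfl⟩ := Additive.ofMul.surjective x'
    obtain ⟨n, rfl⟩ := Additive.ofMul.surjective y'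
    rw [← map_add σ, ← ofMul_mul, ← map_zero σ, ← ofMul_one, hform, hform, hform, hform]
    have e1 : (⟨h * ↑(m * n) * h⁻¹, hMn.conj_mem _ (m * n).2 h⟩ : M) =
        ⟨h * m * h⁻¹, hMn.conj_mem _ m.2 h⟩ * ⟨h * n * h⁻¹, hMn.conj_mem _ n.2 h⟩ := Subtype.ext (by
      show h * ((m : P) * n) * h⁻¹ = (h * m * h⁻¹) * (h * n * h⁻¹)
      group)
    have e2 : (⟨h * ↑(1 : M) * h⁻¹, hMn.conj_mem _ (1 : M).2 h⟩ : M) = 1 := Subtype.ext (by
      show h * (1 : P) * h⁻¹ = 1
      group)
    rw [e1, e2, ofMul_mul, map_add, ofMul_one, map_zero]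
    abel
  · -- translations
    intro t
    obtain ⟨t', rfl⟩ := σ.surjective t
    refine ⟨(t'.toMul : P).1, (t'.toMul : P).2, Equiv.ext fun v => ?_⟩
    obtain ⟨v', rfl⟩ := σ.surjective v
    show σ (emb ((t'.toMul : P).1 (emb.symm (σ.symm (σ v'))))) = σ v' + σ t'
    rw [AddEquiv.symm_apply_apply, ← map_add]
    congr 1
    rw [show v' + t' = Additive.ofMul (v'.toMul * t'.toMul) from rfl, ← hpt]
    congr 1
    show (t'.toMul : P) • (v'.toMul : P) • a = ((v'.toMul * t'.toMul : M) : P) • a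
    rw [Subgroup.coe_mul, ← hMc _ t'.toMul.2 _ v'.toMul.2, mul_smul]
  · -- irreducible
    intro U hU
    let U' : Subgroup P := ((U.comap σ.toAddMonoidHom).toSubgroup').map M.subtype
    have hU'M : U' ≤ M := Subgroup.map_subtype_le _
    have hconj : ∀ (h : P), h ∈ H → ∀ x ∈ U', h * x * h⁻¹ ∈ U' := by
      rintro h hh _ ⟨m, hm, rfl⟩
      refine ⟨⟨h * m * h⁻¹, hMn.conj_mem _ m.2 h⟩, ?_, rfl⟩
      show σ (Additive.ofMul _) ∈ U
      rw [← hlin h hh m]
      have h0 : e.permCongrHom.toMonoidHom (h : Equiv.Perm α) 0 = 0 := by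
        show σ (emb (h.1 (emb.symm (σ.symm 0)))) = 0
        rw [map_zero]
        have : emb.symm (0 : Additive M) = a := by
          rw [Equiv.symm_apply_eq]
          have := hpt 1
          rw [Subgroup.coe_one, one_smul] at this
          exact this.symm
        rw [this, show h.1 a = a from mem_stabilizer_iff.1 hh, ← this, Equiv.apply_symm_apply, map_zero]
      have hm' : σ (Additive.ofMul m) ∈ U := hm
      have := hU _ (hmap h) h0 _ hm'
      have hval : e.permCongrHom.toMonoidHom (h : Equiv.Perm α) (σ (Additive.ofMul m)) =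
          σ (emb (h • ((m : P) • a))) := by
        show σ (emb (h.1 (emb.symm (σ.symm (σ (Additive.ofMul m)))))) = _
        rw [AddEquiv.symm_apply_apply, ← hpt m, Equiv.symm_apply_apply]
        rfl
      rwa [hval] at this
    have hU'n : U'.Normal := by
      refine ⟨fun x hx g => ?_⟩
      obtain ⟨t, h, hh, rfl⟩ := hact g
      have h1 := hconj h hh x hx
      have e : (t : P) * h * x * ((t : P) * h)⁻¹ = (t : P) * (h * x * h⁻¹) * (t : P)⁻¹ := by group
      rw [e, hMc _ t.2 _ (hU'M h1), mul_inv_cancel_right]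
      exact h1
    rcases hMmin U' hU'n hU'M with h | h
    · left
      rw [AddSubgroup.eq_bot_iff_forall]
      intro x hx
      obtain ⟨x', rfl⟩ := σ.surjective x
      have : (x'.toMul : P) ∈ U' := ⟨x'.toMul, hx, rfl⟩
      rw [h, Subgroup.mem_bot] at this
      rw [show x' = 0 from Additive.toMul.injective (Subtype.ext this), map_zero]
    · right
      rw [AddSubgroup.eq_top_iff']
      intro x
      obtain ⟨x', rfl⟩ := σ.surjective x
      obtain ⟨y, hy, he⟩ : (x'.toMul : P) ∈ U' := h.symm ▸ x'.toMul.2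
      obtain rfl : y = x'.toMul := Subtype.ext he
      exact hy

/-- the reduction -/
theorem primSubsets_of_affine
    (hmain : ∀ (r k : ℕ) (_ : Fact r.Prime), 5 ≤ r ^ k → ∀ P : Subgroup (Equiv.Perm (V r k)),
      Aff r k P → Good P) : CfsgLib.OrbitStab.StmtPrimSubsets.{u} := by
  intro G _ _ X _ _ _ hs h5 hmax
  classical
  let f := toPermHom G X
  haveI : Nonempty X := (Nat.card_pos_iff.1 (by omega)).1
  obtain ⟨a⟩ := ‹Nonempty X›
  haveI : IsPretransitive f.range X := ⟨fun x y => by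
    obtain ⟨g, hg⟩ := exists_smul_eq G x y
    exact ⟨⟨_, g, rfl⟩, hg⟩⟩
  let f' : G →* f.range := f.rangeRestrict
  have hf : Function.Surjective f' := MonoidHom.rangeRestrict_surjective _
  have hst : (stabilizer f.range a).comap f' = stabilizer G a := by ext g; rfl
  have hmax' : IsCoatom (stabilizer f.range a) := by
    refine ⟨fun h => (hmax a).1 (by rw [← hst, h, Subgroup.comap_top]), fun K hK => ?_⟩
    have h1 := (hmax a).2 (K.comap f') (hst ▸ (Subgroup.comap_lt_comap_of_surjective hf).2 hK)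
    refine Subgroup.comap_injective hf ?_
    rw [h1, Subgroup.comap_top]
  haveI := hs
  have hne : f.range ≠ ⊥ := by
    intro hb
    refine (hmax a).1 (top_le_iff.1 fun g _ => ?_)
    have : f g = 1 := Subgroup.mem_bot.1 (hb ▸ (⟨g, rfl⟩ : f g ∈ f.range))
    exact Equiv.congr_fun this a
  obtain ⟨r, k, hr, hm, e, hA⟩ := exists_affine f.range (Group.isSolvable_of_surjective hf) a hne hmax'
  haveI := Fact.mk hr
  obtain ⟨T, hT, hTm⟩ := good_congr e f.range (hmain r k ⟨hr⟩ (hm ▸ h5) _ hA)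
  exact ⟨T, fun i j g hg => hT i j (f g) ⟨g, rfl⟩ hg, fun i => triv_of_meta (hTm i)⟩

end CfsgLib.OrbitStab.PrimSets
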